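import Mathlib

/-!
# Arithmetic and counting for the derangement bound

* `sq_le_of_half`, `sq_le_cube`: the numerical endgames.
* `four_mul_card_sq_le`: a non-abelian group has at most three quarters of its elements squaring to 1.
* `prod_card_fix_le`: fixed subgroups with pairwise trivial meets of an abelian coprime operator
  group are independent.
-/

set_option autoImplicit false
set_option linter.all false

namespace CfsgLib.Perm.DerangeIndex

theorem sq_le_of_half {q t d : ℕ} (hq : 2 ≤ q) (ht : 2 ≤ t) (h : 2 * d ≤ t * (q - 1)) :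
    (d + 1) ^ 2 ≤ q ^ t := by
  obtain ⟨x, rfl⟩ : ∃ x, q = x + 1 := ⟨q - 1, by omega⟩
  rw [Nat.add_sub_cancel] at h
  suffices hs : (t * x + 2) ^ 2 ≤ 4 * (x + 1) ^ t by
    have : (2 * (d + 1)) ^ 2 ≤ 4 * (x + 1) ^ t :=
      (Nat.pow_le_pow_left (by omega) 2).trans hs
    nlinarith
  clear h
  induction t, ht using Nat.le_induction with
  | base => nlinarith
  | succ t ht ih =>
    rw [pow_succ (x + 1)]
    have h2 : ((t + 1) * x + 2) ^ 2 ≤ (x + 1) * (t * x + 2) ^ 2 := by
      have e1 : ((t + 1) * x + 2) ^ 2 = (t * x + 2) ^ 2 + x * (2 * (t * x + 2) + x) := by ring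
      have e2 : (x + 1) * (t * x + 2) ^ 2 = (t * x + 2) ^ 2 + x * (t * x + 2) ^ 2 := by ring
      rw [e1, e2]
      refine Nat.add_le_add_left (Nat.mul_le_mul_left x ?_) _
      nlinarith [Nat.mul_le_mul_right x ht]
    calc ((t + 1) * x + 2) ^ 2 ≤ (x + 1) * (t * x + 2) ^ 2 := h2
      _ ≤ (x + 1) * (4 * (x + 1) ^ t) := Nat.mul_le_mul_left _ ih
      _ = _ := by ring

theorem sq_le_cube {q d : ℕ} (hq : 2 ≤ q) (h : 2 * d ≤ 3 * (q - 1)) : (d + 1) ^ 2 ≤ q ^ 3 := by
  have h1 : 2 * (d + 1) + 1 ≤ 3 * q := by omega
  have h2 : (2 * (d + 1) + 1) ^ 2 ≤ (3 * q) ^ 2 := Nat.pow_le_pow_left h1 2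
  rcases Nat.lt_or_ge q 3 with hq3 | hq3
  · interval_cases q
    have : d ≤ 1 := by omega
    interval_cases d <;> norm_num
  · nlinarith [Nat.mul_le_mul_right (q ^ 2) hq3]

/-- In a non-abelian group at most three quarters of the elements square to one. -/
theorem four_mul_card_sq_le {E : Type*} [Group E] [Finite E] (h : ¬ ∀ x y : E, x * y = y * x) :
    4 * Nat.card {x : E // x * x = 1} ≤ 3 * Nat.card E := by
  classical
  haveI := Fintype.ofFinite E
  by_contra hc
  push Not at hc
  rw [Nat.card_eq_fintype_card (α := {x : E // x * x = 1}), Fintype.card_subtype,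
    Nat.card_eq_fintype_card] at hc
  set X := Finset.univ.filter fun x : E => x * x = 1 with hX
  have hsub : ∀ a ∈ X, a ∈ Subgroup.center E := by
    intro a ha
    have ha1 : a * a = 1 := (Finset.mem_filter.1 ha).2
    have hai : a⁻¹ = a := inv_eq_of_mul_eq_one_left ha1
    set C := Subgroup.centralizer ({a} : Set E)
    have h1 : X ∩ X.image (a * ·) ⊆ Finset.univ.filter fun x : E => x ∈ C := by
      intro y hy
      obtain ⟨hy1, hy2⟩ := Finset.mem_inter.1 hy
      obtain ⟨x, hx, rfl⟩ := Finset.mem_image.1 hy2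
      simp only [hX, Finset.mem_filter, Finset.mem_univ, true_and] at hy1 hx ⊢
      have hxi : x⁻¹ = x := inv_eq_of_mul_eq_one_left hx
      have h3 : (a * x)⁻¹ = a * x := inv_eq_of_mul_eq_one_left hy1
      rw [mul_inv_rev, hxi, hai] at h3
      rw [Subgroup.mem_centralizer_singleton_iff]
      calc a * x * a = a * (x * a) := mul_assoc _ _ _
        _ = a * (a * x) := by rw [h3]
    have h2 := Finset.card_le_card h1
    have h3 := Finset.card_union_add_card_inter X (X.image (a * ·))
    have h4 : (X.image (a * ·)).card = X.card :=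
      Finset.card_image_of_injective _ (mul_right_injective a)
    have h5 : (X ∪ X.image (a * ·)).card ≤ Fintype.card E := Finset.card_le_univ _
    have hC : Nat.card C = (Finset.univ.filter fun x : E => x ∈ C).card := by
      rw [Nat.card_eq_fintype_card, Fintype.card_subtype]
    have hidx := C.index_mul_card
    rw [Nat.card_eq_fintype_card (α := E)] at hidx
    have htop : C = ⊤ := by
      rw [← Subgroup.index_eq_one]
      have hpos : 0 < C.index := Nat.pos_of_ne_zero Subgroup.index_ne_zero_of_finite
      by_contra hne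
      have : 2 * Nat.card C ≤ Fintype.card E := hidx ▸ Nat.mul_le_mul_right _ (by omega)
      omega
    exact Subgroup.mem_center_iff.2 fun g =>
      Subgroup.mem_centralizer_singleton_iff.1 (htop ▸ Subgroup.mem_top g : g ∈ C)
  refine h fun x y => ?_
  have hz : Subgroup.center E = ⊤ := by
    rw [← Subgroup.index_eq_one]
    have h1 : X.card ≤ Nat.card (Subgroup.center E) := by
      rw [Nat.card_eq_fintype_card, Fintype.card_subtype]
      exact Finset.card_le_card fun a ha => by simpa using hsub a ha
    have hidx := (Subgroup.center E).index_mul_card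
    rw [Nat.card_eq_fintype_card (α := E)] at hidx
    have hpos : 0 < (Subgroup.center E).index := Nat.pos_of_ne_zero Subgroup.index_ne_zero_of_finite
    by_contra hne
    have : 2 * Nat.card (Subgroup.center E) ≤ Fintype.card E :=
      hidx ▸ Nat.mul_le_mul_right _ (by omega)
    omega
  exact (Subgroup.mem_center_iff.1 (hz ▸ Subgroup.mem_top y) x)

section Indep

variable {A V : Type*} [CommGroup A] [Finite A] [CommGroup V] [Finite V] (φ : A →* MulAut V)

/-- The fixed subgroup of a set of operators. -/
def fixSub (B : Subgroup A) : Subgroup V where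
  carrier := {v | ∀ b ∈ B, φ b v = v}
  one_mem' := fun b _ => map_one _
  mul_mem' := fun hu hv b hb => by rw [map_mul, hu b hb, hv b hb]
  inv_mem' := fun hu b hb => by rw [map_inv, hu b hb]

theorem prod_card_fix_le (hco : (Nat.card A).Coprime (Nat.card V)) (Bs : Finset (Subgroup A))
    (hdis : ∀ B ∈ Bs, ∀ B' ∈ Bs, B ≠ B' → ∀ v, v ∈ fixSub φ B → v ∈ fixSub φ B' → v = 1) :
    ∏ B ∈ Bs, Nat.card (fixSub φ B) ≤ Nat.card V := by
  classical
  let f : (∀ B : Bs, fixSub φ (B : Subgroup A)) →* V :=
    { toFun := fun x => ∏ B : Bs, (x B : V)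
      map_one' := Finset.prod_eq_one fun B _ => rfl
      map_mul' := fun x y => by
        rw [← Finset.prod_mul_distrib]
        rfl }
  have hinj : Function.Injective f := by
    rw [injective_iff_map_eq_one]
    intro x hx
    funext B0
    haveI := Fintype.ofFinite (B0 : Subgroup A)
    let e : V →* V :=
      { toFun := fun v => ∏ b : (B0 : Subgroup A), φ b v
        map_one' := Finset.prod_eq_one fun b _ => map_one _
        map_mul' := fun u v => by simp only [map_mul, Finset.prod_mul_distrib] }
    have hzero : ∀ B : Bs, B ≠ B0 → e (x B) = 1 := by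
      intro B hB
      refine hdis _ B.2 _ B0.2 (fun h => hB (Subtype.ext h)) _ ?_ ?_
      · intro b hb
        show φ b (∏ c : (B0 : Subgroup A), φ c (x B)) = ∏ c : (B0 : Subgroup A), φ c (x B)
        rw [map_prod]
        refine Finset.prod_congr rfl fun c _ => ?_
        rw [← MulAut.mul_apply, ← map_mul, mul_comm, map_mul, MulAut.mul_apply, (x B).2 b hb]
      · intro b hb
        show φ b (∏ c : (B0 : Subgroup A), φ c (x B)) = ∏ c : (B0 : Subgroup A), φ c (x B)
        rw [map_prod]
        refine Fintype.prod_equiv (Equiv.mulLeft (⟨b, hb⟩ : (B0 : Subgroup A))) _ _ fun c => ?_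
        show φ b (φ c (x B)) = φ (b * c) (x B)
        rw [map_mul]; rfl
    have h1 : e (f x) = e (x B0) := by
      show e (∏ B : Bs, (x B : V)) = _
      rw [map_prod]
      exact Finset.prod_eq_single B0 (fun B _ hB => hzero B hB)
        (fun h => absurd (Finset.mem_univ _) h)
    have h2 : e (x B0) = (x B0 : V) ^ Nat.card (B0 : Subgroup A) := by
      show ∏ b : (B0 : Subgroup A), φ b (x B0) = _
      rw [Finset.prod_congr rfl fun (b : (B0 : Subgroup A)) _ => (x B0).2 b b.2, Finset.prod_const, Finset.card_univ,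
        Nat.card_eq_fintype_card]
    rw [hx, map_one, h2] at h1
    refine Subtype.ext ?_
    show (x B0 : V) = 1
    rw [← orderOf_eq_one_iff]
    exact Nat.eq_one_of_dvd_coprimes
      ((hco.coprime_dvd_left (B0 : Subgroup A).card_subgroup_dvd_card))
      (orderOf_dvd_of_pow_eq_one h1.symm) (orderOf_dvd_natCard _)
  have hc := Nat.card_le_card_of_injective f hinj
  rw [Nat.card_pi, Finset.prod_coe_sort Bs fun B => Nat.card (fixSub φ B)] at hc
  exact hc

end Indep

end CfsgLib.Perm.DerangeIndex
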