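import Cfsg.Agent.Lib.Perm.DerangeIndex.Main

/-!
# Transitive groups: the bound holds or the group is a primitive Frobenius group

`frobenius_or_sq_index_le`: for a transitive group of degree at least `14`, with `D` generated by
the derangements.
-/

set_option autoImplicit false
set_option linter.all false

namespace CfsgLib.Perm.DerangeIndex

open MulAction
open scoped Pointwise

variable {G Ω : Type*} [Group G] [MulAction G Ω] [Finite G] [Finite Ω] [FaithfulSMul G Ω]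

/-- With a normal regular subgroup, every derangement lies in it. -/
theorem derangement_mem {D P : Subgroup G} {α : Ω} {p e : ℕ} (h : RData D P α p e)
    [hP : P.Normal] {g : G} (hg : ∀ ω : Ω, g • ω ≠ ω) : g ∈ P := by
  classical
  obtain ⟨⟨v, hv⟩, hve⟩ := h.regular.2 (g • α)
  have hve' : v • α = g • α := hve
  have hl : v⁻¹ * g ∈ nStab P α ⊓ D := Subgroup.mem_inf.2 ⟨Subgroup.mem_inf.2
    ⟨by rw [Subgroup.normalizer_eq_top_iff.2 hP]; exact Subgroup.mem_top _,
      mem_stabilizer_iff.2 (by rw [mul_smul, ← hve', inv_smul_smul])⟩,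
    mul_mem (inv_mem (h.le hv)) (h.data.derangement g hg)⟩
  set l := v⁻¹ * g with hldef
  by_cases hl1 : l = 1
  · rwa [← inv_mul_eq_one.1 hl1]
  exfalso
  let f : P → P := fun w =>
    ⟨w * (l * w * l⁻¹)⁻¹, mul_mem w.2 (inv_mem (conj_mem h hl.1 w.2))⟩
  have hf : Function.Injective f := by
    intro a b hab
    have h1 : (a : G) * (l * a * l⁻¹)⁻¹ = b * (l * b * l⁻¹)⁻¹ := congrArg Subtype.val hab
    have h2 : (b : G)⁻¹ * a = (l * b * l⁻¹)⁻¹ * (l * a * l⁻¹) := by
      calc (b : G)⁻¹ * a = (b : G)⁻¹ * (a * (l * a * l⁻¹)⁻¹) * (l * a * l⁻¹) := by group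
        _ = _ := by rw [h1]; group
    have h3 := fpf h hl hl1 ((b : G)⁻¹ * a) (mul_mem (inv_mem b.2) a.2) (by
      refine mul_inv_eq_iff_eq_mul.1 ?_
      conv_rhs => rw [h2]
      group)
    exact (Subtype.ext (inv_mul_eq_one.1 h3)).symm
  obtain ⟨⟨w, hw⟩, hwe⟩ := Finite.surjective_of_injective hf ⟨v, hv⟩
  have hwe' : w * (l * w * l⁻¹)⁻¹ = v := congrArg Subtype.val hwe
  refine hg (w • α) ?_
  have hlα : l • α = α := hl.1.2
  calc g • w • α = v • l • w • α := by rw [hldef, ← mul_smul v, mul_inv_cancel_left]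
    _ = v • (l * w * l⁻¹) • α := by rw [smul_eq_conj h hl.1 w]
    _ = w • α := by rw [← mul_smul, ← hwe', inv_mul_cancel_right]

/-- The transitive case. -/
theorem frobenius_or_sq_index_le [IsPretransitive G Ω] (hn : 14 ≤ Nat.card Ω) (D : Subgroup G)
    [D.Normal] (hD : ∀ g : G, (∀ ω : Ω, g • ω ≠ ω) → g ∈ D)
    (hmin : ∀ K : Subgroup G, (∀ g : G, (∀ ω : Ω, g • ω ≠ ω) → g ∈ K) → D ≤ K) :
    (IsPreprimitive G Ω ∧ (∃ g : G, g ≠ 1 ∧ ∃ ω : Ω, g • ω = ω) ∧
        ∀ g : G, g ≠ 1 → Nat.card (fixedBy Ω g) ≤ 1) ∨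
      (D.index + 1) ^ 2 ≤ Nat.card Ω := by
  classical
  have hdata : DData D Ω := ⟨inferInstance, hD, exists_mem_smul_eq D hD⟩
  by_cases hdt : D = ⊤
  · right
    rw [hdt, Subgroup.index_top]
    omega
  obtain ⟨α⟩ := (Nat.card_pos_iff.1 (by omega : 0 < Nat.card Ω)).1
  haveI : Nonempty Ω := ⟨α⟩
  rcases reduce hdata hdt α (by omega) with h | ⟨p, e, hp, he, hpD⟩
  · exact Or.inr h
  refine or_iff_not_imp_right.2 fun hbad => ?_
  obtain ⟨P, h⟩ := exists_rdata hdata hdt α hp he hpD hbad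
  haveI hPn : P.Normal := h.normal_or_prime.resolve_right (by omega)
  have hDP : D = P := le_antisymm (hmin P fun g hg => derangement_mem h hg) h.le
  refine ⟨IsPreprimitive.of_isTrivialBlock_base α fun {B} hα hB => ?_, ?_, fun g hg => ?_⟩
  · have hW : ∀ y ∈ nStab P α, ∀ w ∈ P ⊓ stabilizer G B, y * w * y⁻¹ ∈ P ⊓ stabilizer G B := by
      intro y hy w hw
      have hyB : y ∈ stabilizer G B := by
        refine mem_stabilizer_iff.2 (hB.smul_eq_of_nonempty ?_)
        exact ⟨α, ⟨α, hα, hy.2⟩, hα⟩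
      exact Subgroup.mem_inf.2 ⟨conj_mem h hy hw.1, mul_mem (mul_mem hyB hw.2) (inv_mem hyB)⟩
    rcases inv_eq h h.cov le_rfl (inf_le_left : P ⊓ stabilizer G B ≤ P) hW with e' | e'
    · left
      intro x hx y hy
      suffices key : ∀ x ∈ B, x = α by rw [key x hx, key y hy]
      intro x hx
      obtain ⟨⟨v, hv⟩, rfl⟩ := h.regular.2 x
      have hvB : v ∈ P ⊓ stabilizer G B := Subgroup.mem_inf.2 ⟨hv,
        mem_stabilizer_iff.2 (hB.smul_eq_of_nonempty ⟨v • α, ⟨α, hα, rfl⟩, hx⟩)⟩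
      rw [e', Subgroup.mem_bot] at hvB
      show v • α = α
      rw [hvB, one_smul]
    · right
      refine Set.eq_univ_of_forall fun x => ?_
      obtain ⟨⟨v, hv⟩, rfl⟩ := h.regular.2 x
      have hvB : v ∈ stabilizer G B := ((le_of_eq e'.symm) hv).2
      rw [← mem_stabilizer_iff.1 hvB]
      exact ⟨α, hα, rfl⟩
  · obtain ⟨y, hy, hyD⟩ := exists_mem_not_mem h.cov hdt
    exact ⟨y, fun e' => hyD (e' ▸ D.one_mem), α, hy.2⟩
  · rw [Finite.card_le_one_iff_subsingleton]
    refine ⟨fun a b => Subtype.ext ?_⟩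
    by_cases hgD : g ∈ D
    · exfalso
      have hgP : g ∈ P := hDP ▸ hgD
      obtain ⟨⟨w, hw⟩, hwe⟩ := h.regular.2 (a : Ω)
      have h1 : g • w • α = w • α := by
        rw [show w • α = (a : Ω) from hwe]; exact a.2
      rw [← mul_smul] at h1
      exact hg (mul_eq_right.1 (eq_of_smul_eq h (mul_mem hgP hw) hw h1))
    · obtain ⟨ω, -, hu⟩ := fix_unique hdata hgD
      exact (hu a a.2).trans (hu b b.2).symm

end CfsgLib.Perm.DerangeIndex
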