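import Mathlib

/-!
# A transitive normal subgroup containing all derangements

`DData D`: `D` is a normal transitive subgroup of `G` containing every derangement, `d = |G : D|`.

* `fix_unique`: an element outside `D` fixes exactly one point.
* `exists_center_orbit`: if `Y` supplements `D` then some orbit of `Y` is an orbit of `Y ⊓ D`.
* `dvd_ncard`: if a supplement `Y` fixes `β`, the invariant sets avoiding `β` have order divisible
  by `d`.
-/

set_option autoImplicit false
set_option linter.all false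

namespace CfsgLib.Perm.DerangeIndex

open MulAction

variable {G Ω : Type*} [Group G] [MulAction G Ω]

/-- The standing hypotheses. -/
structure DData (D : Subgroup G) (Ω : Type*) [MulAction G Ω] : Prop where
  normal : D.Normal
  derangement : ∀ g : G, (∀ ω : Ω, g • ω ≠ ω) → g ∈ D
  transitive : ∀ a b : Ω, ∃ x ∈ D, x • a = b

theorem card_orbit_mul (Y : Subgroup G) (γ : Ω) :
    Nat.card (orbit Y γ) * Nat.card (Y ⊓ stabilizer G γ : Subgroup G) = Nat.card Y := by
  have e : Nat.card (stabilizer Y γ) = Nat.card (Y ⊓ stabilizer G γ : Subgroup G) :=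
    Nat.card_congr
      { toFun := fun h => ⟨(h : Y), (h : Y).2, h.2⟩
        invFun := fun h => ⟨⟨h.1, h.2.1⟩, h.2.2⟩
        left_inv := fun h => rfl
        right_inv := fun h => rfl }
  rw [← e, ← Subgroup.card_mul_index (stabilizer Y γ), index_stabilizer, mul_comm,
    Nat.card_coe_set_eq]

section

variable [Finite G] [Finite Ω] {D : Subgroup G} (h : DData D Ω)
include h

/-- An element outside `D` fixes exactly one point. -/
theorem fix_unique [Nonempty Ω] {g : G} (hg : g ∉ D) : ∃! ω : Ω, g • ω = ω := by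
  classical
  haveI := Fintype.ofFinite G
  haveI := Fintype.ofFinite Ω
  haveI := h.normal
  let f : D → ℕ := fun x => (Finset.univ.filter fun ω : Ω => (g * (x : G)) • ω = ω).card
  have hpos : ∀ x, 1 ≤ f x := by
    intro x
    rw [Nat.one_le_iff_ne_zero, ← Nat.pos_iff_ne_zero, Finset.card_pos]
    by_contra he
    rw [Finset.not_nonempty_iff_eq_empty, Finset.filter_eq_empty_iff] at he
    exact hg ((D.mul_mem_cancel_right x.2).1 (h.derangement _ fun ω => he (Finset.mem_univ ω)))
  have hsum : ∑ x, f x = Fintype.card D := by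
    have h1 : ∀ ω : Ω, (Finset.univ.filter fun x : D => (g * (x : G)) • ω = ω).card
        = Nat.card (stabilizer D ω) := by
      intro ω
      obtain ⟨x0, hx0, e0⟩ := h.transitive ω (g⁻¹ • ω)
      rw [Nat.card_eq_fintype_card, Fintype.card_subtype]
      refine Finset.card_bij (fun x _ => (⟨x0, hx0⟩ : D)⁻¹ * x) ?_ ?_ ?_
      · intro x hx
        simp only [Finset.mem_filter, Finset.mem_univ, true_and] at hx ⊢
        rw [mem_stabilizer_iff, mul_smul, inv_smul_eq_iff]
        show (x : G) • ω = x0 • ω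
        rw [e0, eq_inv_smul_iff, ← mul_smul, hx]
      · intro a _ b _ hab
        exact mul_left_cancel hab
      · intro y hy
        refine ⟨⟨x0, hx0⟩ * y, ?_, by group⟩
        simp only [Finset.mem_filter, Finset.mem_univ, true_and] at hy ⊢
        rw [mem_stabilizer_iff] at hy
        have hy' : (y : G) • ω = ω := hy
        rw [Subgroup.coe_mul, mul_smul, mul_smul, hy', e0, smul_inv_smul]
    calc ∑ x, f x = ∑ ω : Ω, (Finset.univ.filter fun x : D => (g * (x : G)) • ω = ω).card := by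
          simp only [f, Finset.card_filter]
          exact Finset.sum_comm
      _ = ∑ ω : Ω, Nat.card (stabilizer D ω) := Finset.sum_congr rfl fun ω _ => h1 ω
      _ = Fintype.card D := by
          haveI : IsPretransitive D Ω := ⟨fun a b => by
            obtain ⟨x, hx, e⟩ := h.transitive a b
            exact ⟨⟨x, hx⟩, e⟩⟩
          inhabit Ω
          have hc : ∀ ω : Ω, Nat.card (stabilizer D ω) = Nat.card (stabilizer D (default : Ω)) := by
            intro ω
            obtain ⟨x, rfl⟩ := exists_smul_eq D (default : Ω) ω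
            rw [stabilizer_smul_eq_stabilizer_map_conj]
            exact (Nat.card_congr ((stabilizer D (default : Ω)).equivMapOfInjective _
              (MulAut.conj x).injective).toEquiv).symm
          rw [Finset.sum_congr rfl fun ω _ => hc ω, Finset.sum_const, Finset.card_univ, smul_eq_mul,
            ← Nat.card_eq_fintype_card (α := D), ← Subgroup.card_mul_index (stabilizer D (default : Ω)),
            index_stabilizer_of_transitive, Nat.card_eq_fintype_card, Nat.card_eq_fintype_card (α := Ω),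
            mul_comm]
  have hone : f 1 = 1 := by
    by_contra hne
    have : ∑ _x : D, 1 < ∑ x, f x :=
      Finset.sum_lt_sum (fun x _ => hpos x) ⟨1, Finset.mem_univ _, lt_of_le_of_ne (hpos 1) (Ne.symm hne)⟩
    rw [hsum, Finset.sum_const, Finset.card_univ, smul_eq_mul, mul_one] at this
    exact lt_irrefl _ this
  obtain ⟨ω, hω⟩ := Finset.card_eq_one.1 hone
  refine ⟨ω, ?_, fun y hy => ?_⟩
  · have : ω ∈ Finset.univ.filter fun ω : Ω => (g * ((1 : D) : G)) • ω = ω := by
      rw [hω]; exact Finset.mem_singleton_self ω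
    simpa using this
  · have : y ∈ Finset.univ.filter fun ω : Ω => (g * ((1 : D) : G)) • ω = ω := by simpa using hy
    rwa [hω, Finset.mem_singleton] at this

/-- A supplement of `D` has `d` cosets of its intersection with `D`. -/
theorem card_supplement {Y : Subgroup G} (hY : Y ⊔ D = ⊤) :
    Nat.card Y = D.index * Nat.card (Y ⊓ D : Subgroup G) := by
  haveI := h.normal
  have h1 : (Y ⊓ D).relIndex Y = D.index := by
    rw [Subgroup.inf_relIndex_left, ← Subgroup.relIndex_sup_right, hY, Subgroup.relIndex_top_right]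
  rw [← h1, mul_comm]
  have h2 := Subgroup.relIndex_mul_relIndex ⊥ (Y ⊓ D) Y bot_le inf_le_left
  rw [Subgroup.relIndex_bot_left, Subgroup.relIndex_bot_left] at h2
  exact h2.symm

omit h in
theorem exists_mem_not_mem {Y : Subgroup G} (hY : Y ⊔ D = ⊤) (hd : D ≠ ⊤) : ∃ y ∈ Y, y ∉ D := by
  by_contra hc
  push Not at hc
  exact hd (by rw [← hY, sup_eq_right.2 hc])

/-- If a supplement fixes `β`, an invariant set avoiding `β` has order divisible by `d`. -/
theorem dvd_ncard {Y : Subgroup G} (hY : Y ⊔ D = ⊤) {β : Ω} (hβ : Y ≤ stabilizer G β) (S : Set Ω)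
    (hS : ∀ y ∈ Y, ∀ s ∈ S, y • s ∈ S) (hβS : β ∉ S) : D.index ∣ S.ncard := by
  classical
  haveI : Nonempty Ω := ⟨β⟩
  haveI := Fintype.ofFinite Ω
  induction hm : S.ncard using Nat.strong_induction_on generalizing S with
  | _ m ih =>
  rcases S.eq_empty_or_nonempty with rfl | ⟨γ, hγ⟩
  · rw [← hm, Set.ncard_empty]; exact dvd_zero _
  set O := orbit Y γ with hO
  have hOS : O ⊆ S := by rintro _ ⟨y, rfl⟩; exact hS y y.2 γ hγ
  have hdO : D.index ∣ O.ncard := by
    have hsub : Y ⊓ stabilizer G γ ≤ Y ⊓ D := by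
      intro y hy
      refine ⟨hy.1, ?_⟩
      by_contra hyD
      obtain ⟨ω, -, hu⟩ := fix_unique h hyD
      exact hβS ((hu β (hβ hy.1)).trans (hu γ hy.2).symm ▸ hγ)
    obtain ⟨c, hc⟩ := Subgroup.card_dvd_of_le hsub
    have h1 := card_orbit_mul Y γ
    rw [card_supplement h hY, hc, Nat.card_coe_set_eq, ← mul_assoc,
      mul_comm D.index (Nat.card _), mul_assoc, mul_comm (O.ncard) _] at h1
    exact ⟨c, Nat.eq_of_mul_eq_mul_left Nat.card_pos h1⟩
  have hlt : (S \ O).ncard < m := by
    rw [← hm]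
    exact Set.ncard_lt_ncard ⟨Set.diff_subset, fun hsub => (hsub hγ).2 (mem_orbit_self γ)⟩
  have h2 := ih _ hlt (S \ O) (fun y hy s hs => ⟨hS y hy s hs.1, fun hm' => hs.2 (by
    obtain ⟨z, hz⟩ := hm'
    refine ⟨⟨y, hy⟩⁻¹ * z, ?_⟩
    show ((⟨y, hy⟩ : Y)⁻¹ * z) • γ = s
    rw [mul_smul, show z • γ = y • s from hz, inv_smul_eq_iff]
    rfl)⟩) (fun hb => hβS hb.1) rfl
  rw [← hm, ← Set.ncard_diff_add_ncard_of_subset hOS (Set.toFinite _)]
  exact dvd_add h2 hdO

/-- ... and the ones containing `β` have order `1` modulo `d`. -/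
theorem dvd_ncard_sub_one {Y : Subgroup G} (hY : Y ⊔ D = ⊤) {β : Ω} (hβ : Y ≤ stabilizer G β)
    (S : Set Ω) (hS : ∀ y ∈ Y, ∀ s ∈ S, y • s ∈ S) (hβS : β ∈ S) : D.index ∣ S.ncard - 1 := by
  rw [← Set.ncard_diff_singleton_of_mem hβS]
  refine dvd_ncard h hY hβ _ (fun y hy s hs => ⟨hS y hy s hs.1, fun e => hs.2 ?_⟩) (fun hb => hb.2 rfl)
  rw [Set.mem_singleton_iff] at e ⊢
  rw [← inv_smul_smul y s, e]
  exact hβ (inv_mem hy)

/-- A supplement has an orbit which is an orbit of its intersection with `D`; that orbit contains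
all the fixed points of its elements outside `D`. -/
theorem exists_center_orbit [Nonempty Ω] (hd : D ≠ ⊤) {Y : Subgroup G} (hY : Y ⊔ D = ⊤) :
    ∃ β : Ω, (∀ y ∈ Y, ∃ k ∈ Y ⊓ D, (k * y) • β = β) ∧
      ∀ y ∈ Y, y ∉ D → ∀ γ : Ω, y • γ = γ → ∃ k ∈ Y ⊓ D, k • β = γ := by
  classical
  haveI := Fintype.ofFinite G
  haveI := Fintype.ofFinite Ω
  haveI := h.normal
  set K := Y ⊓ D with hK
  let a : Ω → ℕ := fun γ => Nat.card (Y ⊓ stabilizer G γ : Subgroup G)
  let b : Ω → ℕ := fun γ => Nat.card (K ⊓ stabilizer G γ : Subgroup G)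
  have hba : ∀ γ, b γ ≤ a γ := fun γ =>
    Nat.le_of_dvd Nat.card_pos (Subgroup.card_dvd_of_le (inf_le_inf_right _ inf_le_left))
  have hkey : ∑ γ : Ω, (a γ - b γ) = Nat.card Y - Nat.card K := by
    have hfib : ∀ γ, a γ - b γ =
        (Finset.univ.filter fun y : G => (y ∈ Y ∧ y ∉ D) ∧ y • γ = γ).card := by
      intro γ
      simp only [a, b, Nat.card_eq_fintype_card, Fintype.card_subtype]
      rw [← Finset.card_sdiff_of_subset]
      · congr 1
        ext y
        simp only [Finset.mem_sdiff, Finset.mem_filter, Finset.mem_univ, true_and, hK,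
          Subgroup.mem_inf, mem_stabilizer_iff]
        tauto
      · intro y
        simp only [Finset.mem_filter, Finset.mem_univ, true_and, hK, Subgroup.mem_inf]
        tauto
    have hone : ∀ y : G, y ∈ Y ∧ y ∉ D → (Finset.univ.filter fun γ : Ω => y • γ = γ).card = 1 := by
      intro y hy
      obtain ⟨ω, hω, hu⟩ := fix_unique h hy.2
      rw [Finset.card_eq_one]
      refine ⟨ω, ?_⟩
      ext γ
      simp only [Finset.mem_filter, Finset.mem_univ, true_and, Finset.mem_singleton]
      exact ⟨hu γ, fun e => e ▸ hω⟩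
    calc ∑ γ : Ω, (a γ - b γ) = ∑ γ : Ω, (Finset.univ.filter fun y : G =>
          (y ∈ Y ∧ y ∉ D) ∧ y • γ = γ).card := Finset.sum_congr rfl fun γ _ => hfib γ
      _ = ∑ y ∈ Finset.univ.filter (fun y : G => y ∈ Y ∧ y ∉ D),
          (Finset.univ.filter fun γ : Ω => y • γ = γ).card := by
        simp only [Finset.card_filter, Finset.sum_filter]
        rw [Finset.sum_comm]
        refine Finset.sum_congr rfl fun y _ => ?_
        by_cases hy : y ∈ Y ∧ y ∉ D <;> simp [hy]
      _ = (Finset.univ.filter fun y : G => y ∈ Y ∧ y ∉ D).card := by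
        rw [Finset.sum_congr rfl fun y hy => hone y (Finset.mem_filter.1 hy).2, Finset.sum_const,
          smul_eq_mul, mul_one]
      _ = Nat.card Y - Nat.card K := by
        simp only [Nat.card_eq_fintype_card, Fintype.card_subtype]
        rw [← Finset.card_sdiff_of_subset]
        · congr 1
          ext y
          simp only [Finset.mem_sdiff, Finset.mem_filter, Finset.mem_univ, true_and, hK,
            Subgroup.mem_inf]
          tauto
        · intro y
          simp only [Finset.mem_filter, Finset.mem_univ, true_and, hK, Subgroup.mem_inf]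
          tauto
  -- half bound
  have hhalf : ∀ γ, a γ ≠ b γ → 2 * b γ ≤ a γ := by
    intro γ hne
    obtain ⟨c, hc⟩ := Subgroup.card_dvd_of_le
      (inf_le_inf_right (stabilizer G γ) (inf_le_left : K ≤ Y))
    have hc' : a γ = b γ * c := hc
    have ha : 0 < a γ := Nat.card_pos
    rcases c with _ | _ | c
    · omega
    · omega
    · rw [hc']; nlinarith
  obtain ⟨y₀, hy₀, hy₀D⟩ := exists_mem_not_mem hY hd
  obtain ⟨β, hβ, -⟩ := fix_unique h hy₀D
  have habβ : a β ≠ b β := by
    intro e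
    have := Subgroup.eq_of_le_of_card_ge
      (inf_le_inf_right (stabilizer G β) (inf_le_left : K ≤ Y)) e.le
    have hm : y₀ ∈ K ⊓ stabilizer G β := this ▸ ⟨hy₀, hβ⟩
    exact hy₀D hm.1.2
  -- the function is invariant on orbits of `Y`
  have hcard : ∀ (X : Subgroup G), (∀ y ∈ Y, ∀ x ∈ X, y * x * y⁻¹ ∈ X) → ∀ y : Y, ∀ γ : Ω,
      Nat.card (X ⊓ stabilizer G ((y : G) • γ) : Subgroup G) =
        Nat.card (X ⊓ stabilizer G γ : Subgroup G) := by
    intro X hX y γ
    refine Nat.card_congr
      { toFun := fun x => ⟨(y : G)⁻¹ * x * y, ?_, ?_⟩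
        invFun := fun x => ⟨(y : G) * x * (y : G)⁻¹, ?_, ?_⟩
        left_inv := fun x => Subtype.ext (by group)
        right_inv := fun x => Subtype.ext (by group) }
    · have := hX _ (inv_mem y.2) _ x.2.1
      rwa [inv_inv] at this
    · show ((y : G)⁻¹ * x * y) • γ = γ
      rw [mul_smul, mul_smul, mem_stabilizer_iff.1 x.2.2, inv_smul_smul]
    · exact hX _ y.2 _ x.2.1
    · show ((y : G) * x * (y : G)⁻¹) • (y : G) • γ = (y : G) • γ
      rw [mul_smul, mul_smul, inv_smul_smul, mem_stabilizer_iff.1 x.2.2]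
  have hYY : ∀ y ∈ Y, ∀ x ∈ Y, y * x * y⁻¹ ∈ Y := fun y hy x hx =>
    mul_mem (mul_mem hy hx) (inv_mem hy)
  have hYK : ∀ y ∈ Y, ∀ x ∈ K, y * x * y⁻¹ ∈ K := fun y hy x hx =>
    ⟨hYY y hy x hx.1, h.normal.conj_mem x hx.2 y⟩
  have horb : ∀ γ₀ : Ω, ∀ γ ∈ (orbit Y γ₀).toFinset, a γ - b γ = a γ₀ - b γ₀ := by
    intro γ₀ γ hγ
    rw [Set.mem_toFinset] at hγ
    obtain ⟨y, rfl⟩ := hγ
    show Nat.card (Y ⊓ stabilizer G ((y : G) • γ₀) : Subgroup G) -
      Nat.card (K ⊓ stabilizer G ((y : G) • γ₀) : Subgroup G) = _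
    rw [hcard Y hYY, hcard K hYK]
  have hsumO : ∀ γ₀ : Ω, ∑ γ ∈ (orbit Y γ₀).toFinset, (a γ - b γ) =
      Nat.card (orbit Y γ₀) * (a γ₀ - b γ₀) := by
    intro γ₀
    rw [Finset.sum_congr rfl (horb γ₀), Finset.sum_const, smul_eq_mul, Nat.card_coe_set_eq,
      Set.ncard_eq_toFinset_card']
  have hlow : ∀ γ₀, a γ₀ ≠ b γ₀ → Nat.card Y ≤ 2 * (Nat.card (orbit Y γ₀) * (a γ₀ - b γ₀)) := by
    intro γ₀ hne
    have hh := hhalf γ₀ hne
    rw [← card_orbit_mul Y γ₀, show 2 * (Nat.card (orbit Y γ₀) * (a γ₀ - b γ₀)) =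
      Nat.card (orbit Y γ₀) * (2 * (a γ₀ - b γ₀)) by ring]
    exact Nat.mul_le_mul_left _ (by show a γ₀ ≤ _; omega)
  have honly : ∀ γ, a γ ≠ b γ → γ ∈ orbit Y β := by
    intro γ hγ
    by_contra hn
    have hdis : Disjoint (orbit Y β).toFinset (orbit Y γ).toFinset := by
      rw [Set.disjoint_toFinset, Set.disjoint_left]
      intro x hx1 hx2
      exact hn ((orbit_eq_iff.2 hx1).symm.trans (orbit_eq_iff.2 hx2) ▸ mem_orbit_self γ)
    have h1 := Finset.sum_le_sum_of_subset
      (Finset.subset_univ ((orbit Y β).toFinset ∪ (orbit Y γ).toFinset)) (f := fun x => a x - b x)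
    rw [Finset.sum_union hdis, hsumO, hsumO, hkey] at h1
    have := hlow β habβ
    have := hlow γ hγ
    have : 0 < Nat.card K := Nat.card_pos
    have : 0 < Nat.card Y := Nat.card_pos
    omega
  have htot : Nat.card (orbit Y β) * (a β - b β) = Nat.card Y - Nat.card K := by
    rw [← hsumO, ← hkey]
    refine Finset.sum_subset (Finset.subset_univ _) fun γ _ hγ => ?_
    by_contra hne
    exact hγ (Set.mem_toFinset.2 (honly γ fun e => hne (by rw [e, Nat.sub_self])))
  have hKY : Nat.card K ≤ Nat.card Y :=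
    Nat.le_of_dvd Nat.card_pos (Subgroup.card_dvd_of_le inf_le_left)
  have heq : Nat.card (orbit Y β) = Nat.card (orbit K β) := by
    have h1 := card_orbit_mul Y β
    have h2 := card_orbit_mul K β
    change Nat.card (orbit Y β) * a β = _ at h1
    change Nat.card (orbit K β) * b β = _ at h2
    have h3 : Nat.card (orbit Y β) * b β = Nat.card K := by
      have := Nat.mul_le_mul_left (Nat.card (orbit Y β)) (hba β)
      rw [Nat.mul_sub, h1] at htot
      omega
    exact Nat.eq_of_mul_eq_mul_right (Nat.card_pos) (h3.trans h2.symm)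
  have hsub : orbit K β ⊆ orbit Y β := by
    rintro _ ⟨k, rfl⟩
    exact ⟨⟨k, k.2.1⟩, rfl⟩
  have hKeq : orbit K β = orbit Y β :=
    Set.eq_of_subset_of_ncard_le hsub (by rw [← Nat.card_coe_set_eq, ← Nat.card_coe_set_eq, heq])
      (Set.toFinite _)
  refine ⟨β, fun y hy => ?_, fun y hy hyD γ hyγ => ?_⟩
  · obtain ⟨k, hk⟩ : y • β ∈ orbit K β := hKeq ▸ ⟨⟨y, hy⟩, rfl⟩
    refine ⟨(k : G)⁻¹, inv_mem k.2, ?_⟩
    rw [mul_smul, inv_smul_eq_iff]
    exact hk.symm
  · have hne : a γ ≠ b γ := by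
      intro e
      have := Subgroup.eq_of_le_of_card_ge
        (inf_le_inf_right (stabilizer G γ) (inf_le_left : K ≤ Y)) e.le
      have hm : y ∈ K ⊓ stabilizer G γ := this ▸ ⟨hy, hyγ⟩
      exact hyD hm.1.2
    obtain ⟨k, hk⟩ : γ ∈ orbit K β := hKeq ▸ honly γ hne
    exact ⟨k, k.2, hk⟩

end

end CfsgLib.Perm.DerangeIndex
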