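import Cfsg.Agent.Lib.Perm.DerangeIndex.Fpf

/-!
# The centraliser in `D` of a nontrivial element of `P` is `P`

`cent_le`: `P` is a TI subgroup of `D`, equal to the centraliser of each of its nontrivial elements.
-/

set_option autoImplicit false
set_option linter.all false

namespace CfsgLib.Perm.DerangeIndex

open MulAction

variable {G Ω : Type*} [Group G] [MulAction G Ω] [Finite G] [Finite Ω] [FaithfulSMul G Ω]
variable {D P : Subgroup G} {α : Ω} {p e : ℕ} (h : RData D P α p e)
include h

/-- An element of the normaliser in `D` centralising a nontrivial element of `P` lies in `P`. -/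
theorem mem_of_normalizer {g x : G} (hg : g ∈ D) (hgn : g ∈ Subgroup.normalizer (P : Set G))
    (hx : x ∈ P) (hx1 : x ≠ 1) (hgx : g * x = x * g) : g ∈ P := by
  obtain ⟨⟨z, hz⟩, hze⟩ := h.regular.2 (g • α)
  have hze' : z • α = g • α := hze
  have hl : z⁻¹ * g ∈ nStab P α ⊓ D :=
    Subgroup.mem_inf.2 ⟨Subgroup.mem_inf.2
      ⟨mul_mem (inv_mem (Subgroup.le_normalizer hz : z ∈ Subgroup.normalizer (P : Set G))) hgn,
      mem_stabilizer_iff.2 (by rw [mul_smul, ← hze', inv_smul_smul])⟩,
      mul_mem (inv_mem (h.le hz)) hg⟩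
  have hcom : Commute (z⁻¹ * g) x :=
    (show Commute z x from comm h hz hx).inv_left.mul_left hgx
  by_contra hgP
  refine hx1 (fpf h hl (fun e' => hgP ?_) x hx hcom.eq)
  rwa [← inv_mul_eq_one.1 e']

theorem cent_le {g x : G} (hg : g ∈ D) (hx : x ∈ P) (hx1 : x ≠ 1) (hgx : g * x = x * g) :
    g ∈ P := by
  classical
  haveI := Fact.mk h.prime
  set C := D ⊓ Subgroup.centralizer {x} with hC
  have hPC : P ≤ C := le_inf h.le fun y hy =>
    Subgroup.mem_centralizer_singleton_iff.2 (comm h hy hx)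
  have hind : ¬ p ∣ (P.subgroupOf C).index := by
    intro hd
    have h2 : Nat.card P * (P.subgroupOf C).index = Nat.card C := by
      rw [← Nat.card_congr (Subgroup.subgroupOfEquivOfLe hPC).toEquiv, Subgroup.card_mul_index]
    have h3 : Nat.card C ∣ Nat.card D := Subgroup.card_dvd_of_le inf_le_left
    rw [card_eq_mul_stab h.data α, ← h2, h.card_eq, h.card_P] at h3
    exact h.cop (hd.trans (Nat.dvd_of_mul_dvd_mul_left (pow_pos h.prime.pos e) h3))
  let S : Sylow p C := ((isPGroup h).comap_of_injective C.subtype C.subtype_injective).toSylow hind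
  have hS : (S : Subgroup C) = P.subgroupOf C := rfl
  have hP : Subgroup.normalizer ((S : Subgroup C) : Set C) ≤
      Subgroup.centralizer ((S : Subgroup C) : Set C) := by
    intro u hu
    have hun : (u : G) ∈ Subgroup.normalizer (P : Set G) := by
      refine Subgroup.mem_normalizer_iff.2 fun w => ⟨fun hw => ?_, fun hw => ?_⟩
      · exact (Subgroup.mem_normalizer_iff.1 hu ⟨w, hPC hw⟩).1 hw
      · have hwC : w ∈ C := by
          have h1 : (u : G)⁻¹ * ((u : G) * w * (u : G)⁻¹) * u ∈ C :=
            mul_mem (mul_mem (inv_mem u.2) (hPC hw)) u.2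
          rwa [show (u : G)⁻¹ * ((u : G) * w * (u : G)⁻¹) * u = w by group] at h1
        exact (Subgroup.mem_normalizer_iff.1 hu ⟨w, hwC⟩).2 hw
    have huP := mem_of_normalizer h u.2.1 hun hx hx1 (Subgroup.mem_centralizer_singleton_iff.1 u.2.2)
    exact Subgroup.mem_centralizer_iff.2 fun w hw => Subtype.ext (comm h hw huP)
  obtain ⟨K, hK⟩ : ∃ K, K = (MonoidHom.transferSylow S hP).ker := ⟨_, rfl⟩
  have hcomp := MonoidHom.ker_transferSylow_isComplement' S hP
  have hnd := MonoidHom.not_dvd_card_ker_transferSylow S hP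
  rw [← hK] at hnd
  have hKn : K.Normal := hK ▸ MonoidHom.normal_ker _
  have hnorm : P ≤ Subgroup.normalizer ((K.map C.subtype : Subgroup G) : Set G) := by
    refine le_normalizer_of ?_
    rintro y hy w hw
    obtain ⟨k, hk, rfl⟩ := Subgroup.mem_map.1 hw
    exact Subgroup.mem_map.2
      ⟨⟨y, hPC hy⟩ * k * (⟨y, hPC hy⟩)⁻¹, hKn.conj_mem k hk _, rfl⟩
  have hcard : ¬ p ∣ Nat.card (K.map C.subtype) := by
    rwa [Subgroup.card_map_of_injective C.subtype_injective]
  have hle : K.map C.subtype ≤ D := (Subgroup.map_subtype_le K).trans inf_le_left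
  have hKb : K.map C.subtype = ⊥ := eq_bot_of_normalized h hle hcard hnorm
  have hKb' : K = ⊥ := (Subgroup.map_eq_bot_iff_of_injective _ C.subtype_injective).1 hKb
  rw [← hK] at hcomp
  rw [hKb'] at hcomp
  have htop := Subgroup.isComplement'_bot_left.1 hcomp
  have hgC : g ∈ C := ⟨hg, Subgroup.mem_centralizer_singleton_iff.2 hgx⟩
  have hm : (⟨g, hgC⟩ : C) ∈ (S : Subgroup C) := htop ▸ Subgroup.mem_top _
  exact hm

end CfsgLib.Perm.DerangeIndex
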