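import Cfsg.Agent.Lib.Perm.DerangeIndex.Mult

/-!
# The character-theoretic bound

`char_bound`: a transitive group with a regular abelian TI self-centralising subgroup `A`, normally
generated by `A`, with nontrivial automizer and rank at least `d + 1`, has degree at least
`(d + 1) ^ 2`, unless the degree is a prime at most `13`.
-/

set_option autoImplicit false
set_option linter.all false

namespace CfsgLib.Perm.DerangeIndex

open CfsgLib.Char CfsgLib.CA CfsgLib.CNTI MulAction
open scoped ComplexConjugate Classical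

theorem endgame_small {n l N d : ℕ} (hd : 2 ≤ d) (hN : n = N * l + 1) (hdl : d * l ≤ n - 1)
    (hl : 2 ≤ l) (h : (n - 1) + (l - 1) + 1 ≤ l ^ 2) (hm : ((n : ℤ) - 1) * ((l : ℤ) - 2) ^ 2 < n * l) :
    (d + 1) ^ 2 ≤ n ∨ (n.Prime ∧ n ≤ 13) := by
  subst hN
  rw [Nat.add_sub_cancel] at hdl h
  by_cases hl2 : d + 2 ≤ l
  · left; nlinarith [Nat.mul_le_mul_left d hl2]
  have hdN : d ≤ N := Nat.le_of_mul_le_mul_right hdl (by omega)
  have hNl : N + 1 ≤ l := by
    by_contra hc
    nlinarith [Nat.mul_le_mul_right l (by omega : l ≤ N)]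
  have e1 : N = d := by omega
  have e2 : l = d + 1 := by omega
  subst e1 e2
  rcases Nat.lt_or_ge N 4 with hlt | hge
  · interval_cases N
    · right; norm_num
    · right; norm_num
  · exfalso
    push_cast at hm
    have h3 : (4 : ℤ) ≤ N := by exact_mod_cast hge
    nlinarith [mul_le_mul h3 h3 (by norm_num) (by linarith : (0 : ℤ) ≤ N)]

variable {T X : Type*} [Group T] [Fintype T] [MulAction T X] [Finite X]

set_option maxHeartbeats 1600000 in
theorem char_bound [IsPretransitive T X] (A : Subgroup T) (α : X) (hA : TIK A)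
    (hc : ∀ a b : A, a * b = b * a) (hreg : Function.Bijective fun a : A => (a : T) • α)
    (hgen : Subgroup.normalClosure (A : Set T) = ⊤)
    (hl : 2 ≤ A.relIndex (Subgroup.normalizer (A : Set T))) {d : ℕ} (hd : 2 ≤ d)
    (hrank : d + 1 ≤ Nat.card (orbitRel.Quotient T (X × X))) :
    (d + 1) ^ 2 ≤ Nat.card X ∨ ((Nat.card X).Prime ∧ Nat.card X ≤ 13) := by
  haveI := Fintype.ofFinite A
  haveI := Fintype.ofFinite (Subgroup.normalizer (A : Set T))
  haveI := Fintype.ofFinite (Cfsg.IrrCharacter A)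
  haveI := Fintype.ofFinite (Cfsg.IrrCharacter T)
  haveI : Nonempty X := ⟨α⟩
  set n := Nat.card X with hndef
  have hnA : Nat.card A = n := Nat.card_congr (Equiv.ofBijective _ hreg)
  set l := A.relIndex (Subgroup.normalizer (A : Set T)) with hldef
  obtain ⟨N, r, hN, hl1, hne, horb, hall, hcard⟩ := exists_reps hA
  have hder : derCard A = 1 := by
    rw [derCard, Subgroup.card_eq_one, eq_bot_iff, commutator_def, Subgroup.commutator_le]
    intro a _ b _
    rw [Subgroup.mem_bot, commutatorElement_def, hc a b, mul_inv_cancel_right, mul_inv_cancel]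
  have hnN : n = N * l + 1 := by
    rw [hN, ← hnA, ← linCard_mul_derCard, hder, mul_one]
  let deg : Cfsg.IrrCharacter T → ℕ := fun χ => ∑ lam : Cfsg.IrrCharacter A, mult χ lam
  let m0 : Cfsg.IrrCharacter T → ℕ := fun χ => mult χ (trivChar A)
  have hdeg : ∀ χ, deg χ = m0 χ + l * ∑ j, mult χ (r j) := fun χ =>
    sum_orbits hc hne horb hall hcard _ fun j lam g hg => mult_comp χ g hg
  have hsq : ∀ χ : Cfsg.IrrCharacter T, ∑ lam : Cfsg.IrrCharacter A, mult χ lam ^ 2 =
      m0 χ ^ 2 + l * ∑ j, mult χ (r j) ^ 2 := fun χ =>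
    sum_orbits hc hne horb hall hcard _ fun j lam g hg => by rw [mult_comp χ g hg]
  have hdeg0 : ∀ χ, 0 < deg χ := fun χ => by
    rcases Nat.eq_zero_or_pos (deg χ) with h0 | h0
    · exfalso
      refine IsIrr.apply_one_ne_zero χ.2 ?_
      rw [apply_one_eq (A := A) hc χ, show ∑ lam : Cfsg.IrrCharacter A, mult χ lam = 0 from h0,
        Nat.cast_zero]
    · exact h0
  have htriv : ∀ lam : Cfsg.IrrCharacter A,
      mult (trivChar T) lam = if lam = trivChar A then 1 else 0 := by
    intro lam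
    have h1 : (mult (trivChar T) lam : ℂ) = if trivChar A = lam then 1 else 0 :=
      (mult_spec (trivChar T) lam).symm.trans (classInner_irr (trivChar A) lam)
    split_ifs with he
    · rw [if_pos he.symm] at h1; exact_mod_cast h1
    · rw [if_neg (Ne.symm he)] at h1; exact_mod_cast h1
  have hrestr : ∀ (c : Cfsg.IrrCharacter T → ℕ) (lam : Cfsg.IrrCharacter A),
      Cfsg.classInner (fun x : A => (∑ χ, (c χ : ℂ) • (χ : T → ℂ)) x) (lam : A → ℂ) =
        ((∑ χ, c χ * mult χ lam : ℕ) : ℂ) := by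
    intro c lam
    have h1 : (fun x : A => (∑ χ, (c χ : ℂ) • (χ : T → ℂ)) x) =
        ∑ χ : Cfsg.IrrCharacter T, (c χ : ℂ) • fun x : A => (χ : T → ℂ) x := by
      funext x; simp [Finset.sum_apply]
    rw [h1, classInner_sum_left]
    simp only [classInner_smul_left, mult_spec]
    push_cast
    rfl
  -- the permutation character
  obtain ⟨c, hπ⟩ := IsChar.exists_sum (isCharacter_permChar (G := T) (X := X))
  have hcm : ∀ lam : Cfsg.IrrCharacter A, ∑ χ, c χ * mult χ lam = 1 := by
    intro lam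
    have h1 := hrestr c lam
    rw [← hπ] at h1
    have h2 : Cfsg.classInner (fun x : A => permChar T X x) (lam : A → ℂ) = 1 := by
      rw [Cfsg.classInner, Finset.sum_eq_single 1]
      · rw [lin_one hc lam, Subgroup.coe_one, permChar,
          show fixedBy X (1 : T) = Set.univ by ext; simp, Nat.card_congr (Equiv.Set.univ X), hnA,
          map_one, mul_one, inv_mul_cancel₀ (Nat.cast_ne_zero.mpr Nat.card_pos.ne')]
      · intro a _ ha
        have h3 : fixedBy X (a : T) = ∅ := by
          refine Set.eq_empty_iff_forall_notMem.2 fun y hy => ha ?_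
          obtain ⟨b, rfl⟩ := hreg.2 y
          have h4 : a * b = b := hreg.1 (show ((a * b : A) : T) • α = (b : T) • α by
            rw [Subgroup.coe_mul, mul_smul]; exact hy)
          exact mul_eq_right.1 h4
        rw [permChar, h3]
        simp
      · exact fun h => absurd (Finset.mem_univ _) h
    rw [h2] at h1
    exact_mod_cast h1.symm
  have hcsq : d + 1 ≤ ∑ χ, c χ * c χ := by
    have h1 := classInner_permChar_self (G := T) (X := X)
    rw [hπ, IsChar.classInner_self] at h1
    simp only [map_natCast] at h1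
    have h2 : ∑ χ, c χ * c χ = Nat.card (orbitRel.Quotient T (X × X)) := by exact_mod_cast h1
    omega
  have hc1 : ∀ χ, c χ ≤ 1 := by
    intro χ
    obtain ⟨lam, -, hlam⟩ :=
      Finset.exists_ne_zero_of_sum_ne_zero (s := Finset.univ) (hdeg0 χ).ne'
    have h1 : c χ * mult χ lam ≤ 1 := hcm lam ▸
      Finset.single_le_sum (f := fun χ => c χ * mult χ lam) (fun _ _ => Nat.zero_le _)
        (Finset.mem_univ χ)
    exact (Nat.le_mul_of_pos_right _ (Nat.pos_of_ne_zero hlam)).trans h1
  have hctriv : c (trivChar T) = 1 ∧ ∀ χ, χ ≠ trivChar T → c χ * m0 χ = 0 := by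
    have h1 := hcm (trivChar A)
    rw [← Finset.add_sum_erase _ _ (Finset.mem_univ (trivChar T)), htriv, if_pos rfl, mul_one] at h1
    have h2 : c (trivChar T) = 1 := by
      by_contra hne
      have h3 := classInner_permChar_one (G := T) (X := X)
      rw [hπ] at h3
      have h4 : Cfsg.classInner (∑ χ, (c χ : ℂ) • (χ : T → ℂ)) (trivChar T : T → ℂ) =
          (c (trivChar T) : ℂ) := classInner_sum_irr _ _
      have h5 : c (trivChar T) = Nat.card (orbitRel.Quotient T X) := by
        exact_mod_cast h4.symm.trans h3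
      have : 0 < Nat.card (orbitRel.Quotient T X) :=
        haveI : Nonempty (orbitRel.Quotient T X) := ⟨Quotient.mk'' α⟩
        Nat.card_pos
      have := hc1 (trivChar T)
      omega
    refine ⟨h2, fun χ hχ => ?_⟩
    have h6 : ∑ χ ∈ Finset.univ.erase (trivChar T), c χ * mult χ (trivChar A) = 0 := by omega
    exact Finset.sum_eq_zero_iff.1 h6 χ (Finset.mem_erase.2 ⟨hχ, Finset.mem_univ _⟩)
  -- a constituent of small degree
  set S := Finset.univ.filter fun χ : Cfsg.IrrCharacter T => χ ≠ trivChar T ∧ c χ = 1 with hS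
  have hScard : d ≤ S.card := by
    have h1 : ∑ χ, c χ * c χ ≤ ∑ χ, if χ ∈ insert (trivChar T) S then 1 else 0 := by
      refine Finset.sum_le_sum fun χ _ => ?_
      have h2 := hc1 χ
      split_ifs with hm
      · nlinarith
      · rcases Nat.le_one_iff_eq_zero_or_eq_one.1 h2 with e | e
        · rw [e]
        · exfalso
          refine hm ?_
          by_cases e' : χ = trivChar T
          · rw [e']; exact Finset.mem_insert_self _ _
          · exact Finset.mem_insert_of_mem (Finset.mem_filter.2 ⟨Finset.mem_univ _, e', e⟩)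
    rw [Finset.sum_boole, Finset.filter_mem_eq_inter, Finset.univ_inter,
      Finset.card_insert_of_notMem (fun hm => (Finset.mem_filter.1 hm).2.1 rfl)] at h1
    simp only [Nat.cast_id] at h1
    omega
  have hSdeg : ∑ χ ∈ S, deg χ ≤ n - 1 := by
    have h1 : ∑ χ, c χ * deg χ = n := by
      simp only [deg, Finset.mul_sum]
      rw [Finset.sum_comm, Finset.sum_congr rfl fun lam _ => hcm lam,
        sum_orbits hc hne horb hall hcard (fun _ => 1) (fun _ _ _ _ => rfl), Finset.sum_const,
        Finset.card_univ, Fintype.card_fin, smul_eq_mul, mul_one, hnN]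
      ring
    rw [← Finset.add_sum_erase _ _ (Finset.mem_univ (trivChar T)), hctriv.1, one_mul] at h1
    have h2 : deg (trivChar T) = 1 := by
      simp only [deg, htriv, Finset.sum_ite_eq', Finset.mem_univ, if_true]
    rw [h2] at h1
    have h3 : ∑ χ ∈ S, deg χ ≤ ∑ χ ∈ Finset.univ.erase (trivChar T), c χ * deg χ := by
      refine le_of_eq_of_le (Finset.sum_congr rfl fun χ hχ => ?_)
        (Finset.sum_le_sum_of_subset fun χ hχ => Finset.mem_erase.2
          ⟨(Finset.mem_filter.1 hχ).2.1, Finset.mem_univ _⟩)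
      rw [(Finset.mem_filter.1 hχ).2.2, one_mul]
    omega
  obtain ⟨ψ, hψS, hψd⟩ : ∃ ψ ∈ S, d * deg ψ ≤ n - 1 := by
    refine Finset.exists_le_of_sum_le (Finset.card_pos.1 (by omega)) ?_
    rw [← Finset.mul_sum, Finset.sum_const, smul_eq_mul]
    exact (Nat.mul_le_mul_left d hSdeg).trans (Nat.mul_le_mul_right _ hScard)
  obtain ⟨-, hψt, hψc⟩ := Finset.mem_filter.1 hψS
  have hψ0 : m0 ψ = 0 := by simpa [hψc] using hctriv.2 ψ hψt
  have hψle : ∀ lam : Cfsg.IrrCharacter A, mult ψ lam ≤ 1 := by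
    intro lam
    have h1 := Finset.single_le_sum (f := fun χ => c χ * mult χ lam) (fun _ _ => Nat.zero_le _)
      (Finset.mem_univ ψ)
    simp only [hcm lam, hψc, one_mul] at h1
    exact h1
  have hψsq : ∀ lam : Cfsg.IrrCharacter A, mult ψ lam ^ 2 = mult ψ lam := by
    intro lam
    rcases Nat.le_one_iff_eq_zero_or_eq_one.1 (hψle lam) with e | e <;> rw [e] <;> rfl
  obtain ⟨j₀, hj₀⟩ : ∃ j₀, ∀ j, mult ψ (r j) = if j = j₀ then 1 else 0 := by
    set k := ∑ j, mult ψ (r j) with hk
    have hdk : deg ψ = l * k := by rw [hdeg, hψ0, zero_add]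
    have hm := mass_lt hA hc ψ
    rw [hsq, hψ0, Finset.sum_congr rfl fun j _ => hψsq (r j), ← hk, hnA, ← hldef,
      show ∑ lam : Cfsg.IrrCharacter A, mult ψ lam = l * k from hdk] at hm
    have hk1 : k = 1 := by
      have h1 := hdeg0 ψ
      rw [hdk] at h1
      have h2 : 0 < k := Nat.pos_of_mul_pos_left h1
      rw [hdk] at hψd
      by_contra hne
      have h3 : 2 ≤ k := by omega
      have h4 : 2 * (l * k) ≤ n := (Nat.mul_le_mul_right _ hd).trans (hψd.trans (Nat.sub_le _ _))
      nlinarith [Nat.mul_le_mul_right (l * k) h4, Nat.mul_le_mul_left (n * l) h3]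
    obtain ⟨j₀, hj, hj0⟩ := Finset.exists_ne_zero_of_sum_ne_zero (s := Finset.univ)
      (f := fun j => mult ψ (r j)) (by rw [← hk]; omega)
    refine ⟨j₀, fun j => ?_⟩
    have h5 := Finset.add_sum_erase Finset.univ (fun j => mult ψ (r j)) hj
    rw [← hk, hk1] at h5
    split_ifs with e
    · rw [e]
      have := hψle (r j₀)
      omega
    · have := Finset.single_le_sum (f := fun j => mult ψ (r j)) (fun _ _ => Nat.zero_le _)
        (Finset.mem_erase.2 ⟨e, Finset.mem_univ j⟩)
      omega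
  have hψl : deg ψ = l := by
    rw [hdeg, hψ0, Finset.sum_congr rfl fun j _ => hj₀ j, Finset.sum_ite_eq',
      if_pos (Finset.mem_univ _)]
    ring
  have hsep : ∀ j k, j ≠ k →
      (∑ χ : Cfsg.IrrCharacter T, ((mult χ (r j) : ℤ) - mult χ (r k)) ^ 2 = 2) ∧
      ∑ χ : Cfsg.IrrCharacter T, ((mult χ (r j) : ℤ) - mult χ (r k)) * (deg χ : ℤ) = 0 := by
    intro j k hjk
    obtain ⟨h1, h2⟩ := sum_mult_sq_diff hA hl1 hne horb hjk
    refine ⟨h1, ?_⟩
    have h3 : ((∑ χ : Cfsg.IrrCharacter T,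
        ((mult χ (r j) : ℤ) - mult χ (r k)) * (deg χ : ℤ) : ℤ) : ℂ) = ((0 : ℤ) : ℂ) := by
      rw [Int.cast_sum, Int.cast_zero, ← h2]
      refine Finset.sum_congr rfl fun χ _ => ?_
      rw [apply_one_eq (A := A) hc χ]
      push_cast [deg]
      rfl
    exact_mod_cast h3
  have hexc : ∀ k, ∃ χ : Cfsg.IrrCharacter T, m0 χ = 0 ∧
      ∀ j, mult χ (r j) = if j = k then 1 else 0 := by
    intro k
    by_cases hk : k = j₀
    · exact ⟨ψ, hψ0, hk ▸ hj₀⟩
    obtain ⟨h1, h2⟩ := hsep j₀ k (Ne.symm hk)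
    have hψv : (mult ψ (r j₀) : ℤ) - mult ψ (r k) = 1 := by
      rw [hj₀, hj₀, if_pos rfl, if_neg hk]; rfl
    rw [← Finset.add_sum_erase _ _ (Finset.mem_univ ψ), hψv] at h1 h2
    obtain ⟨χ, hχ, hχ0⟩ := Finset.exists_ne_zero_of_sum_ne_zero
      (s := Finset.univ.erase ψ)
      (f := fun χ : Cfsg.IrrCharacter T => ((mult χ (r j₀) : ℤ) - mult χ (r k)) ^ 2) (by omega)
    rw [← Finset.add_sum_erase _ _ hχ] at h1 h2
    set v := (mult χ (r j₀) : ℤ) - mult χ (r k) with hv
    have hv0 : v ≠ 0 := fun e => hχ0 (by rw [e]; rfl)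
    have hnn := Finset.sum_nonneg (s := (Finset.univ.erase ψ).erase χ)
      (f := fun χ : Cfsg.IrrCharacter T => ((mult χ (r j₀) : ℤ) - mult χ (r k)) ^ 2)
      (fun _ _ => sq_nonneg _)
    rw [one_pow] at h1
    have hv1 : v ^ 2 = 1 := by have := sq_pos_of_ne_zero hv0; omega
    have hrest : ∑ x ∈ (Finset.univ.erase ψ).erase χ,
        ((mult x (r j₀) : ℤ) - mult x (r k)) ^ 2 = 0 := by omega
    have hrest' : ∑ x ∈ (Finset.univ.erase ψ).erase χ,
        ((mult x (r j₀) : ℤ) - mult x (r k)) * (deg x : ℤ) = 0 :=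
      Finset.sum_eq_zero fun x hx => by
        have := (Finset.sum_eq_zero_iff_of_nonneg fun _ _ => sq_nonneg _).1 hrest x hx
        rw [pow_eq_zero_iff two_ne_zero] at this
        rw [this, zero_mul]
    rw [hrest', hψl] at h2
    have hχl : deg χ = l ∧ mult χ (r k) = mult χ (r j₀) + 1 := by
      rcases sq_eq_one_iff.1 hv1 with e | e
      · rw [e] at h2; omega
      · rw [e] at h2; exact ⟨by omega, by omega⟩
    obtain ⟨hχl, hχk⟩ := hχl
    have h3 := hdeg χ
    rw [hχl, ← Finset.add_sum_erase _ _ (Finset.mem_univ k), hχk] at h3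
    have h5 : m0 χ + l * (mult χ (r j₀) + ∑ x ∈ Finset.univ.erase k, mult χ (r x)) = 0 := by
      simp only [mul_add, mul_one] at h3 ⊢
      omega
    obtain ⟨h6, h7⟩ := Nat.add_eq_zero_iff.1 h5
    have h4 : mult χ (r j₀) + ∑ x ∈ Finset.univ.erase k, mult χ (r x) = 0 :=
      (Nat.mul_eq_zero.1 h7).resolve_left (by omega)
    refine ⟨χ, ?_, fun j => ?_⟩
    · exact h6
    · split_ifs with e
      · rw [e, hχk]; omega
      · have := Finset.single_le_sum (f := fun x => mult χ (r x)) (fun _ _ => Nat.zero_le _)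
          (Finset.mem_erase.2 ⟨e, Finset.mem_univ j⟩)
        omega
  choose E hE0 hEm using hexc
  have hEinj : ∀ j k, E j = E k → j = k := by
    intro j k e
    have h1 := hEm j j
    rw [e, hEm k j, if_pos rfl] at h1
    by_contra hne
    rw [if_neg hne] at h1
    exact zero_ne_one h1
  have hother : ∀ χ, (∀ j, χ ≠ E j) → ∀ j k, mult χ (r j) = mult χ (r k) := by
    intro χ hχ j k
    by_cases hjk : j = k
    · rw [hjk]
    obtain ⟨h1, -⟩ := hsep j k hjk
    have hne' : E k ∈ (Finset.univ : Finset (Cfsg.IrrCharacter T)).erase (E j) :=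
      Finset.mem_erase.2 ⟨fun e => hjk (hEinj _ _ e).symm, Finset.mem_univ _⟩
    rw [← Finset.add_sum_erase _ _ (Finset.mem_univ (E j)), ← Finset.add_sum_erase _ _ hne',
      hEm j j, hEm j k, hEm k j, hEm k k, if_pos rfl, if_pos rfl, if_neg hjk, if_neg (Ne.symm hjk)]
      at h1
    have h2 := Finset.single_le_sum
      (f := fun χ : Cfsg.IrrCharacter T => ((mult χ (r j) : ℤ) - mult χ (r k)) ^ 2)
      (fun _ _ => sq_nonneg _)
      (show χ ∈ ((Finset.univ : Finset (Cfsg.IrrCharacter T)).erase (E j)).erase (E k) from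
        Finset.mem_erase.2 ⟨hχ k, Finset.mem_erase.2 ⟨hχ j, Finset.mem_univ _⟩⟩)
    push_cast at h1 h2
    have h3 : ((mult χ (r j) : ℤ) - mult χ (r k)) ^ 2 = 0 :=
      le_antisymm (by linarith) (sq_nonneg _)
    have := sub_eq_zero.1 (pow_eq_zero_iff two_ne_zero |>.1 h3)
    exact_mod_cast this
  -- the square of `ψ`
  obtain ⟨e, he⟩ := IsChar.exists_sum
    (IsChar.mul (IsIrr.isCharacter ψ.2) (IsChar.conj (IsIrr.isCharacter ψ.2)))
  have he1 : e (trivChar T) = 1 := by
    have h1 := classInner_sum_irr (fun χ => (e χ : ℂ)) (trivChar T)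
    rw [← he] at h1
    have h2 := classInner_irr_self ψ
    simp only [Cfsg.classInner, trivChar_apply, map_one, mul_one, Pi.mul_apply] at h1 h2
    rw [h2] at h1
    exact_mod_cast h1.symm
  have hem : ∑ χ, e χ * m0 χ = l := by
    have h1 := hrestr e (trivChar A)
    rw [← he] at h1
    simp only [Cfsg.classInner, trivChar_apply, map_one, mul_one, Pi.mul_apply, Complex.mul_conj]
      at h1
    rw [← Complex.ofReal_sum, sum_normSq_eq, Finset.sum_congr rfl fun lam _ => hψsq lam] at h1
    change (Nat.card A : ℂ)⁻¹ * (((Nat.card A : ℝ) * ((deg ψ : ℕ) : ℝ) : ℝ) : ℂ) = _ at h1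
    rw [Complex.ofReal_mul, Complex.ofReal_natCast, Complex.ofReal_natCast,
      inv_mul_cancel_left₀ (Nat.cast_ne_zero.mpr Nat.card_pos.ne'), hψl] at h1
    exact (Nat.cast_inj.1 h1).symm
  have hed : ∑ χ, e χ * deg χ = l ^ 2 := by
    have h1 := congrFun he 1
    simp only [Finset.sum_apply, Pi.smul_apply, smul_eq_mul, Pi.mul_apply, apply_one_eq (A := A) hc,
      map_natCast] at h1
    rw [show ∑ lam : Cfsg.IrrCharacter A, mult ψ lam = l from hψl] at h1
    rw [sq]
    exact_mod_cast h1.symm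
  set O := Finset.univ.filter fun χ : Cfsg.IrrCharacter T => χ ≠ trivChar T ∧ ∀ j, χ ≠ E j with hO
  have hOm : ∀ χ ∈ O, 1 ≤ mult χ (r j₀) := by
    intro χ hχ
    obtain ⟨-, hχt, hχE⟩ := Finset.mem_filter.1 hχ
    rcases Nat.eq_zero_or_pos (mult χ (r j₀)) with h0 | h0
    swap
    · exact h0
    exfalso
    have hz : ∀ lam : Cfsg.IrrCharacter A, lam ≠ trivChar A → mult χ lam = 0 := by
      intro lam hlam
      obtain ⟨j, g, hg⟩ := hall lam (lin_one hc lam) hlam
      rw [mult_comp χ g hg, hother χ hχE j j₀, h0]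
    obtain ⟨K, hKn, hK⟩ := CharDegree.exists_ker (IsIrr.isCharacter χ.2)
    have hAK : (A : Set T) ⊆ K := by
      intro a ha
      refine (hK a).2 ?_
      have h1 := congrFun (restrict_eq_sum (A := A) χ) ⟨a, ha⟩
      have h2 := congrFun (restrict_eq_sum (A := A) χ) 1
      simp only [Finset.sum_apply, Pi.smul_apply, smul_eq_mul, Subgroup.coe_one] at h1 h2
      rw [h1, h2]
      refine Finset.sum_congr rfl fun lam _ => ?_
      by_cases hlam : lam = trivChar A
      · rw [hlam, trivChar_apply, trivChar_apply]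
      · rw [hz lam hlam, Nat.cast_zero, zero_mul, zero_mul]
    have hKtop : K = ⊤ :=
      top_le_iff.1 (hgen ▸ @Subgroup.normalClosure_le_normal _ _ _ K hKn hAK)
    have h1 := classInner_irr_of_ne hχt
    simp only [Cfsg.classInner, trivChar_apply, map_one, mul_one] at h1
    rw [Finset.sum_congr rfl fun g _ => (hK g).1 (hKtop ▸ Subgroup.mem_top g), Finset.sum_const,
      nsmul_eq_mul, Finset.card_univ, ← Nat.card_eq_fintype_card,
      inv_mul_cancel_left₀ (Nat.cast_ne_zero.mpr Nat.card_pos.ne')] at h1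
    exact IsIrr.apply_one_ne_zero χ.2 h1
  have hOdeg : ∀ χ ∈ O, deg χ = m0 χ + (n - 1) * mult χ (r j₀) := by
    intro χ hχ
    rw [hdeg, Finset.sum_congr rfl fun j _ => hother χ (Finset.mem_filter.1 hχ).2.2 j j₀,
      Finset.sum_const, Finset.card_univ, Fintype.card_fin, smul_eq_mul, hnN, Nat.add_sub_cancel]
    ring
  have hOmass : ∀ χ ∈ O, ((n : ℤ) - 1) * ((m0 χ : ℤ) - mult χ (r j₀)) ^ 2 < n * l := by
    intro χ hχ
    have hm := mass_lt hA hc χ
    rw [hsq, show ∑ lam : Cfsg.IrrCharacter A, mult χ lam = deg χ from rfl, hdeg,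
      Finset.sum_congr rfl fun j _ => congrArg (· ^ 2) (hother χ (Finset.mem_filter.1 hχ).2.2 j j₀),
      Finset.sum_congr rfl fun j _ => hother χ (Finset.mem_filter.1 hχ).2.2 j j₀,
      Finset.sum_const, Finset.sum_const, Finset.card_univ, Fintype.card_fin, smul_eq_mul,
      smul_eq_mul, hnA, ← hldef] at hm
    have hn' : (n : ℤ) = N * l + 1 := by exact_mod_cast hnN
    have hm' : (n : ℤ) * ((m0 χ : ℤ) ^ 2 + l * (N * (mult χ (r j₀) : ℤ) ^ 2)) <
        ((m0 χ : ℤ) + l * (N * mult χ (r j₀))) ^ 2 + n * l := by exact_mod_cast hm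
    rw [hn'] at hm' ⊢
    nlinarith
  have hsum1 : ∑ χ ∈ O, e χ * m0 χ + 1 = l := by
    rw [← hem, ← Finset.add_sum_erase _ _ (Finset.mem_univ (trivChar T)), he1, one_mul,
      show m0 (trivChar T) = 1 from (htriv _).trans (if_pos rfl), add_comm]
    congr 1
    refine Finset.sum_subset (fun χ hχ => Finset.mem_erase.2
      ⟨(Finset.mem_filter.1 hχ).2.1, Finset.mem_univ _⟩) fun χ hχ hχO => ?_
    by_contra hne'
    refine hχO (Finset.mem_filter.2 ⟨Finset.mem_univ _, (Finset.mem_erase.1 hχ).1, fun j e' => ?_⟩)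
    exact hne' (by rw [e', hE0, mul_zero])
  have hsum2 : ∑ χ ∈ O, e χ * deg χ + 1 ≤ l ^ 2 := by
    rw [← hed, ← Finset.add_sum_erase _ _ (Finset.mem_univ (trivChar T)), he1, one_mul, add_comm]
    refine Nat.add_le_add ?_ (Finset.sum_le_sum_of_subset fun χ hχ => Finset.mem_erase.2
      ⟨(Finset.mem_filter.1 hχ).2.1, Finset.mem_univ _⟩)
    exact hdeg0 _
  rw [Finset.sum_congr rfl fun χ hχ => show e χ * deg χ =
    e χ * m0 χ + (n - 1) * (e χ * mult χ (r j₀)) by rw [hOdeg χ hχ]; ring, Finset.sum_add_distrib,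
    ← Finset.mul_sum] at hsum2
  have hdl : d * l ≤ n - 1 := hψl ▸ hψd
  rcases Nat.lt_or_ge (∑ χ ∈ O, e χ * mult χ (r j₀)) 2 with hlt | hge
  swap
  · left
    have h1 := Nat.mul_le_mul_left (n - 1) hge
    have h2 : 2 * d * l + l ≤ l * l := by rw [sq] at hsum2; nlinarith
    have h3 : 2 * d + 1 ≤ l := by
      refine Nat.le_of_mul_le_mul_right ?_ (by omega : 0 < l)
      rw [add_mul, one_mul]; exact h2
    have h4 := Nat.mul_le_mul_left d h3
    have h5 : d * l + 1 ≤ n := by omega
    nlinarith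
  · obtain ⟨χ, hχ, hχ0⟩ := Finset.exists_ne_zero_of_sum_ne_zero (s := O)
      (f := fun χ => e χ * m0 χ) (by omega)
    have ha := hOm χ hχ
    have hs := Finset.add_sum_erase O (fun χ => e χ * mult χ (r j₀)) hχ
    have hech : 0 < e χ := Nat.pos_of_ne_zero fun e' => hχ0 (by rw [e', zero_mul])
    have he' : e χ = 1 ∧ mult χ (r j₀) = 1 :=
      mul_eq_one.1 (show e χ * mult χ (r j₀) = 1 by
        have := Nat.mul_pos hech ha
        omega)
    have hrest : ∑ x ∈ O.erase χ, e x * mult x (r j₀) = 0 := by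
      rw [he'.1, he'.2] at hs; omega
    have hm0 : m0 χ + 1 = l := by
      rw [← hsum1, ← Finset.add_sum_erase O _ hχ, he'.1, one_mul,
        Finset.sum_eq_zero (s := O.erase χ) fun x hx => ?_, add_zero]
      have h1 := Finset.sum_eq_zero_iff.1 hrest x hx
      have h2 := hOm x (Finset.mem_of_mem_erase hx)
      rcases Nat.mul_eq_zero.1 h1 with e' | e'
      · rw [e', zero_mul]
      · omega
    have hmass := hOmass χ hχ
    rw [he'.2] at hmass
    have hone : ∑ x ∈ O, e x * mult x (r j₀) = 1 := by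
      rw [← hs, he'.1, he'.2, hrest]
    rw [hone, mul_one] at hsum2
    refine endgame_small hd hnN hdl hl (by omega) ?_
    have : (m0 χ : ℤ) = (l : ℤ) - 1 := by omega
    rw [this] at hmass
    push_cast at hmass
    linarith

end CfsgLib.Perm.DerangeIndex
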