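import Cfsg.Agent.Lib.PGroups.Basic
import Cfsg.Agent.Lib.PGroups.ClassTwo

/-!
# A normal cyclic subgroup of an `r`-group and the elements of order `r` around it

* `cyclic_mem_zpowers`, `exists_commutator_eq`: the unique subgroup of order `r` of a cyclic
  `r`-group; commutators reach it.
* `mul_pow_mem`: products of commuting-modulo-`C` elements.
* `exists_central_mod`: a normal subgroup properly containing `C` has an element of order `r` of the
  centre modulo `C`.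
-/

set_option autoImplicit false
set_option linter.all false

namespace CfsgLib.Perm.DerangeIndex

variable {G : Type*} [Group G] [Finite G] {r : ℕ}

theorem cyclic_mem_zpowers [Fact r.Prime] {C : Subgroup G} [IsCyclic C] {z : G} (hz : z ∈ C)
    (hzr : orderOf z = r) {c : G} (hc : c ∈ C) (hcr : c ^ r = 1) : c ∈ Subgroup.zpowers z := by
  classical
  haveI := Fintype.ofFinite G
  set T := Finset.univ.filter fun a : C => a ^ r = 1 with hT
  have hle : T.card ≤ r := IsCyclic.card_pow_eq_one_le (Fact.out (p := r.Prime)).pos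
  have hsub : (Finset.range r).image (fun i : ℕ => (⟨z, hz⟩ : C) ^ i) ⊆ T := by
    intro a ha
    obtain ⟨i, -, rfl⟩ := Finset.mem_image.1 ha
    rw [hT, Finset.mem_filter]
    refine ⟨Finset.mem_univ _, Subtype.ext ?_⟩
    show (z ^ i) ^ r = 1
    rw [← pow_mul, mul_comm, pow_mul, ← hzr, pow_orderOf_eq_one, one_pow]
  have hinj : Set.InjOn (fun i : ℕ => (⟨z, hz⟩ : C) ^ i) ↑(Finset.range r) := by
    intro i hi j hj he
    have ho : orderOf (⟨z, hz⟩ : C) = r := by rw [← hzr, ← Subgroup.orderOf_coe]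
    exact pow_injOn_Iio_orderOf (by rw [Set.mem_Iio, ho]; exact Finset.mem_range.1 hi)
      (by rw [Set.mem_Iio, ho]; exact Finset.mem_range.1 hj) he
  have heq := Finset.eq_of_subset_of_card_le hsub (by
    rw [Finset.card_image_of_injOn hinj, Finset.card_range]; exact hle)
  have hm : (⟨c, hc⟩ : C) ∈ T := Finset.mem_filter.2 ⟨Finset.mem_univ _, Subtype.ext hcr⟩
  rw [← heq] at hm
  obtain ⟨i, -, hi⟩ := Finset.mem_image.1 hm
  exact ⟨i, by simpa using congrArg Subtype.val hi⟩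

/-- Every nontrivial element of a cyclic `r`-group generates a subgroup containing `z`. -/
theorem mem_zpowers_of_ne_one [hr : Fact r.Prime] {C : Subgroup G} [IsCyclic C] (hC : IsPGroup r C)
    {z : G} (hz : z ∈ C) (hzr : orderOf z = r) {c : G} (hc : c ∈ C) (hc1 : c ≠ 1) :
    z ∈ Subgroup.zpowers c := by
  have hle : Subgroup.zpowers c ≤ C := Subgroup.zpowers_le.2 hc
  have hd : r ∣ Nat.card (Subgroup.zpowers c) := by
    rcases (hC.to_le hle).card_eq_or_dvd with h | h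
    · exact absurd (Subgroup.card_eq_one.1 h) (fun e => hc1 (by simpa using e))
    · exact h
  obtain ⟨w, hw⟩ := exists_prime_orderOf_dvd_card' (G := Subgroup.zpowers c) r hd
  rw [← Subgroup.orderOf_coe] at hw
  have h1 : Subgroup.zpowers (w : G) = Subgroup.zpowers z :=
    Subgroup.eq_of_le_of_card_ge (Subgroup.zpowers_le.2 (cyclic_mem_zpowers hz hzr (hle w.2)
      (by rw [← hw]; exact pow_orderOf_eq_one _))) (by rw [Nat.card_zpowers, Nat.card_zpowers, hw, hzr])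
  exact (Subgroup.zpowers_le.2 w.2) (h1.symm ▸ Subgroup.mem_zpowers z)

omit [Finite G] in
theorem conj_pow_of_comm {x a k : G} (hk : x * k = k * x) (he : x * a * x⁻¹ = k * a) (n : ℕ) :
    x ^ n * a * (x ^ n)⁻¹ = k ^ n * a := by
  induction n with
  | zero => simp
  | succ n ih =>
    have hkn : x * k ^ n * x⁻¹ = k ^ n := by
      rw [(show Commute x k from hk).pow_right n |>.eq, mul_inv_cancel_right]
    calc x ^ (n + 1) * a * (x ^ (n + 1))⁻¹ = x * (x ^ n * a * (x ^ n)⁻¹) * x⁻¹ := by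
          rw [pow_succ']; group
      _ = x * k ^ n * x⁻¹ * (x * a * x⁻¹) := by rw [ih]; group
      _ = k ^ n * (k * a) := by rw [hkn, he]
      _ = _ := by rw [pow_succ, mul_assoc]

/-- If some commutator of `a` is a nontrivial element of `C`, then `a` is conjugate to all `a * zⁱ`. -/
theorem exists_commutator_eq [Fact r.Prime] {C E : Subgroup G} [IsCyclic C] (hC : IsPGroup r C)
    {z : G} (hz : z ∈ C) (hzr : orderOf z = r) {x a : G} (hx : x ∈ E) (hk : x * a * x⁻¹ * a⁻¹ ∈ C)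
    (hk1 : x * a * x⁻¹ * a⁻¹ ≠ 1) (hxk : x * (x * a * x⁻¹ * a⁻¹) = x * a * x⁻¹ * a⁻¹ * x)
    (hza : z * a = a * z) (i : ℕ) : ∃ y ∈ E, y * a * y⁻¹ = a * z ^ i := by
  set k := x * a * x⁻¹ * a⁻¹ with hkdef
  have hm := mem_zpowers_of_ne_one hC hz hzr hk hk1
  classical
  obtain ⟨m, hm'⟩ := Finset.mem_image.1
    (((isOfFinOrder_of_finite k).mem_zpowers_iff_mem_range_orderOf).1 hm)
  refine ⟨x ^ (m * i), pow_mem hx _, ?_⟩
  rw [conj_pow_of_comm hxk (by rw [hkdef]; group) (m * i), pow_mul, hm'.2]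
  exact ((show Commute z a from hza).pow_left i).eq

omit [Finite G] in
/-- Automorphisms induced on a cyclic subgroup commute. -/
theorem commutator_commute {C : Subgroup G} [IsCyclic C] {x y : G}
    (hx : x ∈ Subgroup.normalizer (C : Set G)) (hy : y ∈ Subgroup.normalizer (C : Set G)) :
    ∀ c ∈ C, (x * y * x⁻¹ * y⁻¹) * c = c * (x * y * x⁻¹ * y⁻¹) := by
  obtain ⟨⟨g, hg⟩, hgen⟩ := IsCyclic.exists_generator (α := C)
  have hpow : ∀ {u : G}, u ∈ Subgroup.normalizer (C : Set G) → ∃ i : ℤ, u * g * u⁻¹ = g ^ i := by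
    intro u hu
    obtain ⟨i, hi⟩ := Subgroup.mem_zpowers_iff.1
      (hgen ⟨u * g * u⁻¹, (Subgroup.mem_normalizer_iff.1 hu g).1 hg⟩)
    exact ⟨i, by simpa using (congrArg Subtype.val hi).symm⟩
  obtain ⟨i, hi⟩ := hpow (inv_mem hx)
  obtain ⟨j, hj⟩ := hpow (inv_mem hy)
  have e1 : x⁻¹ * y⁻¹ * g * (x⁻¹ * y⁻¹)⁻¹ = g ^ (i * j) := by
    rw [show x⁻¹ * y⁻¹ * g * (x⁻¹ * y⁻¹)⁻¹ = x⁻¹ * (y⁻¹ * g * y⁻¹⁻¹) * x⁻¹⁻¹ by group, hj,
      ← conj_zpow, hi, ← zpow_mul]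
  have e2 : y⁻¹ * x⁻¹ * g * (y⁻¹ * x⁻¹)⁻¹ = g ^ (i * j) := by
    rw [show y⁻¹ * x⁻¹ * g * (y⁻¹ * x⁻¹)⁻¹ = y⁻¹ * (x⁻¹ * g * x⁻¹⁻¹) * y⁻¹⁻¹ by group, hi,
      ← conj_zpow, hj, ← zpow_mul, mul_comm]
  intro c hc
  obtain ⟨k, hk⟩ := Subgroup.mem_zpowers_iff.1 (hgen ⟨c, hc⟩)
  have hk' : g ^ k = c := by simpa using congrArg Subtype.val hk
  rw [← hk']
  refine ((Commute.zpow_right ?_ k)).eq
  show x * y * x⁻¹ * y⁻¹ * g = g * (x * y * x⁻¹ * y⁻¹)
  calc x * y * x⁻¹ * y⁻¹ * g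
      = x * y * (x⁻¹ * y⁻¹ * g * (x⁻¹ * y⁻¹)⁻¹) * (x⁻¹ * y⁻¹) := by group
    _ = x * y * (y⁻¹ * x⁻¹ * g * (y⁻¹ * x⁻¹)⁻¹) * (x⁻¹ * y⁻¹) := by rw [e1, e2]
    _ = _ := by group

/-- If `x`, `y` commute modulo `C`, so do their powers with the product. -/
theorem mul_pow_mem {C R : Subgroup G} (hn : R ≤ Subgroup.normalizer (C : Set G)) (hCR : C ≤ R)
    {x y : G} (hx : x ∈ R) (hy : y ∈ R) (hxy : x * y * x⁻¹ * y⁻¹ ∈ C) {n : ℕ} (hxn : x ^ n ∈ C)
    (hyn : y ^ n ∈ C) : (x * y) ^ n ∈ C := by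
  haveI : (C.subgroupOf R).Normal := (Subgroup.normal_subgroupOf_iff_le_normalizer hCR).2 hn
  set π := QuotientGroup.mk' (C.subgroupOf R)
  have hm : ∀ {u : G} (hu : u ∈ R), u ∈ C ↔ π ⟨u, hu⟩ = 1 := fun hu =>
    ((QuotientGroup.eq_one_iff (N := C.subgroupOf R) ⟨_, hu⟩).trans Subgroup.mem_subgroupOf).symm
  have hc : Commute (π ⟨x, hx⟩) (π ⟨y, hy⟩) := by
    have h1 := (hm (mul_mem (mul_mem (mul_mem hx hy) (inv_mem hx)) (inv_mem hy))).1 hxy
    have h2 : π ⟨x, hx⟩ * π ⟨y, hy⟩ * (π ⟨x, hx⟩)⁻¹ * (π ⟨y, hy⟩)⁻¹ = 1 := by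
      rw [← map_inv, ← map_inv, ← map_mul, ← map_mul, ← map_mul]; exact h1
    rw [mul_inv_eq_one, mul_inv_eq_iff_eq_mul] at h2
    exact h2
  rw [hm (pow_mem (mul_mem hx hy) n)]
  show π (((⟨x, hx⟩ : R) * ⟨y, hy⟩) ^ n) = 1
  rw [map_pow, map_mul, hc.mul_pow, ← map_pow, ← map_pow,
    show π (⟨x, hx⟩ ^ n) = 1 from (hm (pow_mem hx n)).1 hxn,
    show π (⟨y, hy⟩ ^ n) = 1 from (hm (pow_mem hy n)).1 hyn, one_mul]

/-- A normal subgroup above `C` has an element of order `r` central modulo `C`. -/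
theorem exists_central_mod [Fact r.Prime] {C W R : Subgroup G} (hR : IsPGroup r R) (hCW : C ≤ W)
    (hWR : W ≤ R) (hnC : R ≤ Subgroup.normalizer (C : Set G))
    (hnW : R ≤ Subgroup.normalizer (W : Set G)) (hlt : ¬ W ≤ C) :
    ∃ w ∈ W, w ∉ C ∧ w ^ r ∈ C ∧ ∀ y ∈ R, y * w * y⁻¹ * w⁻¹ ∈ C := by
  haveI : (C.subgroupOf R).Normal :=
    (Subgroup.normal_subgroupOf_iff_le_normalizer (hCW.trans hWR)).2 hnC
  haveI : (W.subgroupOf R).Normal := (Subgroup.normal_subgroupOf_iff_le_normalizer hWR).2 hnW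
  set π := QuotientGroup.mk' (C.subgroupOf R) with hπ
  haveI : ((W.subgroupOf R).map π).Normal :=
    Subgroup.Normal.map inferInstance _ (QuotientGroup.mk'_surjective _)
  have hne : (W.subgroupOf R).map π ≠ ⊥ := by
    intro e
    rw [Subgroup.map_eq_bot_iff, hπ, QuotientGroup.ker_mk'] at e
    exact hlt fun w hw => e (show (⟨w, hWR hw⟩ : R) ∈ W.subgroupOf R from hw)
  have hq := hR.to_quotient (C.subgroupOf R)
  have hnt := CfsgLib.PGroups.inf_center_ne_bot hq hne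
  have hd : r ∣ Nat.card ((W.subgroupOf R).map π ⊓ Subgroup.center (R ⧸ C.subgroupOf R) :
      Subgroup _) := by
    rcases (hq.to_subgroup ((W.subgroupOf R).map π ⊓ Subgroup.center _)).card_eq_or_dvd with h | h
    · exact absurd (Subgroup.card_eq_one.1 h) hnt
    · exact h
  obtain ⟨q0, hqo⟩ := exists_prime_orderOf_dvd_card' r hd
  rw [← Subgroup.orderOf_coe] at hqo
  have hqN := (Subgroup.mem_inf.1 q0.2).1
  have hqZ := (Subgroup.mem_inf.1 q0.2).2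
  obtain ⟨⟨w, hwR⟩, hw, he⟩ := Subgroup.mem_map.1 hqN
  rw [← he] at hqo hqZ
  have hm : ∀ {u : G} (hu : u ∈ R), u ∈ C ↔ π ⟨u, hu⟩ = 1 := fun hu =>
    ((QuotientGroup.eq_one_iff (N := C.subgroupOf R) ⟨_, hu⟩).trans Subgroup.mem_subgroupOf).symm
  refine ⟨w, hw, fun hC => ?_, ?_, fun y hy => ?_⟩
  · rw [(hm hwR).1 hC, orderOf_one] at hqo
    exact (Fact.out (p := r.Prime)).ne_one hqo.symm
  · refine (hm (pow_mem hwR r)).2 ?_
    show π (⟨w, hwR⟩ ^ r) = 1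
    rw [map_pow, ← hqo]
    exact pow_orderOf_eq_one _
  · refine (hm (mul_mem (mul_mem (mul_mem hy hwR) (inv_mem hy)) (inv_mem hwR))).2 ?_
    show π (⟨y, hy⟩ * ⟨w, hwR⟩ * (⟨y, hy⟩)⁻¹ * (⟨w, hwR⟩)⁻¹) = 1
    rw [map_mul, map_mul, map_mul, map_inv, map_inv,
      Subgroup.mem_center_iff.1 hqZ (π ⟨y, hy⟩)]
    group

end CfsgLib.Perm.DerangeIndex
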