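import Cfsg.Agent.Lib.Perm.DerangeIndex.Linear
import Cfsg.Agent.Lib.Perm.DerangeIndex.Spread

/-!
# `N_{D_α}(P)` acts without fixed points on `P`

`fpf`: a nontrivial element of `nStab P α ⊓ D` centralises no nontrivial element of `P`.
-/

set_option autoImplicit false
set_option linter.all false

namespace CfsgLib.Perm.DerangeIndex

open MulAction
open scoped commutatorElement Pointwise

theorem le_normalizer_of {G : Type*} [Group G] {Y A : Subgroup G}
    (hA : ∀ y ∈ Y, ∀ a ∈ A, y * a * y⁻¹ ∈ A) : Y ≤ Subgroup.normalizer (A : Set G) := by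
  intro y hy
  refine Subgroup.mem_normalizer_iff.2 fun a => ⟨fun ha => hA y hy a ha, fun ha => ?_⟩
  have h1 := hA y⁻¹ (inv_mem hy) _ ha
  rwa [show y⁻¹ * (y * a * y⁻¹) * y⁻¹⁻¹ = a by group] at h1

variable {G Ω : Type*} [Group G] [MulAction G Ω] [Finite G] [Finite Ω] [FaithfulSMul G Ω]
variable {D P : Subgroup G} {α : Ω} {p e : ℕ} (h : RData D P α p e)
include h

/-- The elements of order `r` of an `r`-subgroup normalised by a supplement. -/
theorem fpf_of_prime {r : ℕ} [hr : Fact r.Prime] {Y : Subgroup G} (hY : Y ⊔ D = ⊤)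
    (hYn : Y ≤ nStab P α) {R : Subgroup G} (hR : R ≤ Y ⊓ D)
    (hRn : ∀ y ∈ Y, ∀ x ∈ R, y * x * y⁻¹ ∈ R) (hRp : IsPGroup r R) {a : G} (ha : a ∈ R)
    (har : a ^ r = 1) (ha1 : a ≠ 1) : ∀ v ∈ P, a * v = v * a → v = 1 := by
  classical
  haveI : Finite (Subgroup G) :=
    Finite.of_injective (fun W : Subgroup G => (W : Set G)) SetLike.coe_injective
  have hRY : R ≤ Y := hR.trans inf_le_left
  set Z₀ := R ⊓ Subgroup.centralizer (R : Set G) with hZ₀
  -- a maximal abelian subgroup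
  set S : Set (Subgroup G) := {A | A ≤ R ∧ Z₀ ≤ A ∧ (∀ x ∈ A, ∀ y ∈ A, x * y = y * x) ∧
    ∀ y ∈ Y, ∀ x ∈ A, y * x * y⁻¹ ∈ A} with hS
  obtain ⟨C, hCS, hmax⟩ := (Set.toFinite S).exists_maximal ⟨Z₀, inf_le_left, le_rfl,
    fun x hx y hy => (Subgroup.mem_centralizer_iff.1 hy.2 x hx.1),
    fun y hy x hx => ⟨hRn y hy x hx.1, Subgroup.mem_centralizer_iff.2 fun w hw => by
      have h1 : y⁻¹ * w * y⁻¹⁻¹ ∈ R := hRn _ (inv_mem hy) w hw
      rw [inv_inv] at h1
      have h2 := Subgroup.mem_centralizer_iff.1 hx.2 _ h1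
      calc w * (y * x * y⁻¹) = y * (y⁻¹ * w * y * x) * y⁻¹ := by group
        _ = y * (x * (y⁻¹ * w * y)) * y⁻¹ := by rw [h2]
        _ = _ := by group⟩⟩
  obtain ⟨hCR, hZC, hCc, hCn⟩ := hCS
  have hfpC := fpf_of_abelian h hY hYn (hCR.trans hR) hCn hCc
  haveI := isCyclic_of_fpf_abelian h ((hCR.trans hRY).trans hYn) hCc hfpC
  have hCp : IsPGroup r C := hRp.to_le hCR
  -- the element `z`
  obtain ⟨z, hzZ, hzr⟩ : ∃ z ∈ Z₀, orderOf z = r := by
    have hne : Z₀ ≠ ⊥ := by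
      haveI : Nontrivial R := ⟨⟨⟨a, ha⟩, 1, fun e' => ha1 (congrArg Subtype.val e')⟩⟩
      intro e'
      obtain ⟨⟨⟨x, hx⟩, hxc⟩, hx1⟩ :=
        (Subgroup.ne_bot_iff_exists_ne_one).1 hRp.bot_lt_center.ne'
      have hm : x ∈ Z₀ := ⟨hx, Subgroup.mem_centralizer_iff.2 fun w hw =>
        congrArg Subtype.val (Subgroup.mem_center_iff.1 hxc ⟨w, hw⟩)⟩
      rw [e', Subgroup.mem_bot] at hm
      exact hx1 (Subtype.ext (Subtype.ext hm))
    have hd : r ∣ Nat.card Z₀ := by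
      rcases (hRp.to_le (inf_le_left : Z₀ ≤ R)).card_eq_or_dvd with e' | e'
      · exact absurd (Subgroup.card_eq_one.1 e') hne
      · exact e'
    obtain ⟨z, hz⟩ := exists_prime_orderOf_dvd_card' (G := Z₀) r hd
    exact ⟨z, z.2, by rw [Subgroup.orderOf_coe]; exact hz⟩
  have hz : z ∈ C := hZC hzZ
  have hzR : z ∈ R := hCR hz
  have hz1 : z ≠ 1 := fun e' => hr.out.ne_one (by rw [← hzr, e', orderOf_one])
  have hzc : ∀ x ∈ R, z * x = x * z := fun x hx =>
    (Subgroup.mem_centralizer_iff.1 hzZ.2 x hx).symm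
  have hzfp : ∀ v ∈ P, z * v = v * z → v = 1 := hfpC z hz hz1
  have hzC : ∀ c ∈ C, c ^ r = 1 → c ∈ Subgroup.zpowers z := fun c hc hcr =>
    cyclic_mem_zpowers hz hzr hc hcr
  have hnC : Y ≤ Subgroup.normalizer (C : Set G) := le_normalizer_of hCn
  -- two common hypotheses of the spreading lemma
  have H2 : ∀ x : G, x ^ r ∈ C → z ∉ Subgroup.zpowers x → x ^ r = 1 := fun x hx hzx => by
    by_contra hne
    exact hzx ((Subgroup.zpowers_le.2 (pow_mem (Subgroup.mem_zpowers x) r))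
      (mem_zpowers_of_ne_one hCp hz hzr hx hne))
  suffices haC : a ∈ C from hfpC a haC ha1
  set H := R ⊓ Subgroup.centralizer (C : Set G) with hH
  have hCH : C ≤ H := le_inf hCR fun c hc => Subgroup.mem_centralizer_iff.2 fun x hx => hCc x hx c hc
  by_cases hHC : H ≤ C
  · -- the cyclic subgroup is self-centralising
    let E : Subgroup G :=
      { carrier := {x | x ∈ R ∧ x ^ r ∈ C}
        one_mem' := ⟨R.one_mem, by rw [one_pow]; exact C.one_mem⟩
        mul_mem' := fun {x y} hx hy => ⟨R.mul_mem hx.1 hy.1,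
          mul_pow_mem (hRY.trans hnC) hCR hx.1 hy.1 (hHC
            ⟨R.mul_mem (R.mul_mem (R.mul_mem hx.1 hy.1) (R.inv_mem hx.1)) (R.inv_mem hy.1),
              Subgroup.mem_centralizer_iff.2 fun c hc =>
                (commutator_commute (hnC (hRY hx.1)) (hnC (hRY hy.1)) c hc).symm⟩) hx.2 hy.2⟩
        inv_mem' := fun {x} hx => ⟨R.inv_mem hx.1, by rw [inv_pow]; exact C.inv_mem hx.2⟩ }
    have hER : E ≤ R := fun x hx => hx.1
    have hCE : C ≤ E := fun c hc => ⟨hCR hc, pow_mem hc r⟩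
    have hmem : ∀ x ∈ E, (∀ w ∈ E, x * w = w * x) → x ∈ C := fun x hx hxc =>
      hHC ⟨hER hx, Subgroup.mem_centralizer_iff.2 fun c hc => (hxc c (hCE hc)).symm⟩
    have key := eq_center_of_spread h hY hYn (E := E) (hER.trans hR)
      (fun y hy x hx => ⟨hRn y hy x hx.1, by rw [conj_pow]; exact hCn y hy _ hx.2⟩)
      (hRp.to_le hER) (hCE hz) hzr (fun x hx => hzc x hx.1) hzfp ?_
      (fun x hx => H2 x hx.2) (fun c hc hcc hcr => hzC c (hmem c hc hcc) hcr)
    · exact (Subgroup.zpowers_le.2 hz) (key a ⟨ha, by rw [har]; exact C.one_mem⟩ har)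
    intro b hb hbr hbnc i
    obtain ⟨c, hc, hcb⟩ : ∃ c ∈ C, c * b * c⁻¹ * b⁻¹ ≠ 1 := by
      by_contra hall
      push Not at hall
      have hbC : b ∈ C := hHC ⟨hb.1, Subgroup.mem_centralizer_iff.2 fun c hc =>
        mul_inv_eq_iff_eq_mul.1 (mul_inv_eq_one.1 (hall c hc))⟩
      obtain ⟨k, rfl⟩ := Subgroup.mem_zpowers_iff.1 (hzC b hbC hbr)
      exact hbnc fun x hx => ((show Commute z x from hzc x hx.1).zpow_left k).eq
    have hk : c * b * c⁻¹ * b⁻¹ ∈ C := by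
      rw [show c * b * c⁻¹ * b⁻¹ = c * (b * c⁻¹ * b⁻¹) by group]
      exact mul_mem hc (hCn b (hRY hb.1) _ (inv_mem hc))
    exact exists_commutator_eq hCp hz hzr (hCE hc) hk hcb (hCc c hc _ hk) (hzc b hb.1) i
  -- the class two subgroup
  have hcen : ∀ {x : G}, x ∈ H → ∀ c ∈ C, x * c = c * x := fun hx c hc =>
    (Subgroup.mem_centralizer_iff.1 hx.2 c hc).symm
  let K : Subgroup G :=
    { carrier := {x | x ∈ H ∧ x ^ r ∈ C ∧ ∀ y ∈ R, y * x * y⁻¹ * x⁻¹ ∈ C}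
      one_mem' := ⟨H.one_mem, by rw [one_pow]; exact C.one_mem, fun y _ => by
        simpa using C.one_mem⟩
      mul_mem' := fun {x w} hx hw => ⟨H.mul_mem hx.1 hw.1,
        mul_pow_mem (hRY.trans hnC) hCR hx.1.1 hw.1.1 (hw.2.2 x hx.1.1) hx.2.1 hw.2.1,
        fun y hy => by
          have e1 : y * (x * w) * y⁻¹ * (x * w)⁻¹ =
              (y * x * y⁻¹ * x⁻¹) * (x * (y * w * y⁻¹ * w⁻¹)) * x⁻¹ := by group
          rw [e1, hcen hx.1 _ (hw.2.2 y hy), ← mul_assoc, mul_inv_cancel_right]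
          exact C.mul_mem (hx.2.2 y hy) (hw.2.2 y hy)⟩
      inv_mem' := fun {x} hx => ⟨H.inv_mem hx.1, by rw [inv_pow]; exact C.inv_mem hx.2.1,
        fun y hy => by
          have e1 : y * x⁻¹ * y⁻¹ * x⁻¹⁻¹ = x⁻¹ * (y * x * y⁻¹ * x⁻¹)⁻¹ * x := by group
          rw [e1, hcen (H.inv_mem hx.1) _ (C.inv_mem (hx.2.2 y hy)), inv_mul_cancel_right]
          exact C.inv_mem (hx.2.2 y hy)⟩ }
  have hKH : K ≤ H := fun x hx => hx.1
  have hKR : K ≤ R := hKH.trans inf_le_left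
  have hCK : C ≤ K := fun c hc => ⟨hCH hc, pow_mem hc r, fun y hy =>
    mul_mem (hCn y (hRY hy) c hc) (inv_mem hc)⟩
  have hHn : ∀ y ∈ Y, ∀ x ∈ H, y * x * y⁻¹ ∈ H := by
    intro y hy x hx
    refine ⟨hRn y hy x hx.1, Subgroup.mem_centralizer_iff.2 fun c hc => ?_⟩
    have h1 : y⁻¹ * c * y⁻¹⁻¹ ∈ C := hCn _ (inv_mem hy) c hc
    rw [inv_inv] at h1
    have h2 := hcen hx _ h1
    calc c * (y * x * y⁻¹) = y * ((y⁻¹ * c * y) * x) * y⁻¹ := by group
      _ = y * (x * (y⁻¹ * c * y)) * y⁻¹ := by rw [h2]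
      _ = _ := by group
  have hKn : ∀ y ∈ Y, ∀ x ∈ K, y * x * y⁻¹ ∈ K := fun y hy x hx =>
    ⟨hHn y hy x hx.1, by rw [conj_pow]; exact hCn y hy _ hx.2.1, fun u hu => by
      have h1 : y⁻¹ * u * y⁻¹⁻¹ ∈ R := hRn _ (inv_mem hy) u hu
      rw [inv_inv] at h1
      have h2 := hCn y hy _ (hx.2.2 _ h1)
      rwa [show y * (y⁻¹ * u * y * x * (y⁻¹ * u * y)⁻¹ * x⁻¹) * y⁻¹ =
        u * (y * x * y⁻¹) * u⁻¹ * (y * x * y⁻¹)⁻¹ by group] at h2⟩
  obtain ⟨w₀, hw₀H, hw₀C, hw₀r, hw₀c⟩ :=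
    exists_central_mod hRp hCH inf_le_left (hRY.trans hnC) (hRY.trans (le_normalizer_of hHn)) hHC
  have hw₀ : w₀ ∈ K := ⟨hw₀H, hw₀r, hw₀c⟩
  -- the centre of `K` is `C`
  have hZK : ∀ x ∈ K, (∀ w ∈ K, x * w = w * x) → x ∈ C := by
    intro x hx hxc
    have hm : K ⊓ Subgroup.centralizer (K : Set G) ∈ S := ⟨inf_le_left.trans hKR, ?_,
      fun u hu w hw => Subgroup.mem_centralizer_iff.1 hw.2 u hu.1, fun y hy u hu => ⟨hKn y hy u hu.1,
        Subgroup.mem_centralizer_iff.2 fun w hw => ?_⟩⟩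
    · exact hmax hm (le_inf hCK fun c hc => Subgroup.mem_centralizer_iff.2 fun w hw =>
        hcen (hKH hw) c hc) ⟨hx, Subgroup.mem_centralizer_iff.2 fun w hw => (hxc w hw).symm⟩
    · exact fun u hu => ⟨hCK (hZC hu), Subgroup.mem_centralizer_iff.2 fun w hw =>
        Subgroup.mem_centralizer_iff.1 hu.2 w (hKR hw)⟩
    · have h1 : y⁻¹ * w * y⁻¹⁻¹ ∈ K := hKn _ (inv_mem hy) w hw
      rw [inv_inv] at h1
      have h2 := Subgroup.mem_centralizer_iff.1 hu.2 _ h1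
      calc w * (y * u * y⁻¹) = y * ((y⁻¹ * w * y) * u) * y⁻¹ := by group
        _ = y * (u * (y⁻¹ * w * y)) * y⁻¹ := by rw [h2]
        _ = _ := by group
  have hcomm : ∀ x ∈ K, ∀ w ∈ K, x * w * x⁻¹ * w⁻¹ ∈ Subgroup.zpowers z := by
    intro x hx w hw
    have hk : x * w * x⁻¹ * w⁻¹ ∈ C := hw.2.2 x hx.1.1
    refine hzC _ hk ?_
    have h1 := conj_pow_of_comm (a := w) (hcen hx.1 _ hk) (by group) r
    rw [← hcen hw.1 _ hx.2.1, mul_inv_cancel_right] at h1
    exact mul_eq_right.1 h1.symm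
  have hno : ∀ b ∈ K, b ^ r = 1 → b ∈ C := by
    have key := eq_center_of_spread h hY hYn (E := K) (hKR.trans hR) hKn (hRp.to_le hKR) (hCK hz)
      hzr (fun x hx => hzc x (hKR hx)) hzfp ?_
      (fun x hx => H2 x hx.2.1) (fun c hc hcc hcr => hzC c (hZK c hc hcc) hcr)
    · exact fun b hb hbr => (Subgroup.zpowers_le.2 hz) (key b hb hbr)
    intro b hb hbr hbnc i
    obtain ⟨c, hc, hcb⟩ : ∃ c ∈ K, c * b * c⁻¹ * b⁻¹ ≠ 1 := by
      by_contra hall
      push Not at hall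
      exact hbnc fun x hx => (mul_inv_eq_iff_eq_mul.1 (mul_inv_eq_one.1 (hall x hx))).symm
    exact exists_commutator_eq hCp hz hzr hc (hb.2.2 c hc.1.1) hcb
      (hcen hc.1 _ (hb.2.2 c hc.1.1)) (hzc b hb.1.1) i
  -- two noncommuting elements
  obtain ⟨x, hx, y, hy, hxy⟩ : ∃ x ∈ K, ∃ y ∈ K, x * y ≠ y * x := by
    by_contra hall
    push Not at hall
    exact hw₀C (hZK w₀ hw₀ (hall w₀ hw₀))
  have hxC : x ∉ C := fun hc => hxy (hcen hy.1 x hc).symm
  have hyC : y ∉ C := fun hc => hxy (hcen hx.1 y hc)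
  have hroot : ∀ b ∈ K, ∀ c ∈ C, b ^ r = c ^ r → b ∈ C := by
    intro b hb c hc he
    have h1 := hno (b * c⁻¹) (mul_mem hb (inv_mem (hCK hc))) (by
      rw [((show Commute b c from hcen hb.1 c hc).inv_right).mul_pow, inv_pow, he, mul_inv_cancel])
    simpa using mul_mem h1 hc
  obtain ⟨⟨g, hg⟩, hgen⟩ := IsCyclic.exists_generator (α := C)
  have hgpow : ∀ c ∈ C, ∃ i : ℕ, g ^ i = c := by
    intro c hc
    obtain ⟨i, -, hi⟩ := Finset.mem_image.1
      (((isOfFinOrder_of_finite (⟨g, hg⟩ : C)).mem_zpowers_iff_mem_range_orderOf).1 (hgen ⟨c, hc⟩))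
    exact ⟨i, by simpa using congrArg Subtype.val hi⟩
  obtain ⟨i, hi⟩ := hgpow _ hx.2.1
  obtain ⟨j, hj⟩ := hgpow _ hy.2.1
  have hri : ¬ r ∣ i := by
    rintro ⟨l, rfl⟩
    exact hxC (hroot x hx _ (pow_mem hg l) (by rw [← hi, ← pow_mul, mul_comm]))
  obtain ⟨k, hk⟩ : ∃ k : ℕ, r ∣ j + k * i := by
    refine ⟨((-(j : ZMod r)) / (i : ZMod r)).val, ?_⟩
    have hi0 : (i : ZMod r) ≠ 0 := fun e' => hri ((ZMod.natCast_eq_zero_iff i r).1 e')
    rw [← ZMod.natCast_eq_zero_iff, Nat.cast_add, Nat.cast_mul, ZMod.natCast_val, ZMod.cast_id,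
      div_mul_cancel₀ _ hi0, add_neg_cancel]
  set b := y * x ^ k with hb
  have hbK : b ∈ K := mul_mem hy (pow_mem hx k)
  have hbC : b ∉ C := by
    intro hc
    refine hxy (Commute.eq ?_)
    have h1 : Commute x (b * (x ^ k)⁻¹) :=
      (show Commute x b from hcen hx.1 b hc).mul_right ((Commute.refl x).pow_right k).inv_right
    rwa [hb, mul_inv_cancel_right] at h1
  obtain ⟨l, hl⟩ := hk
  set c := x ^ k * y * (x ^ k)⁻¹ * y⁻¹ with hcdef
  have hcz : c ∈ Subgroup.zpowers z := hcomm _ (pow_mem hx k) y hy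
  have hcC : c ∈ C := (Subgroup.zpowers_le.2 hz) hcz
  have hbr : b ^ r = (g ^ l) ^ r * c ^ r.choose 2 := by
    have hcent : ⁅(⟨x ^ k, pow_mem hx k⟩ : K), ⟨y, hy⟩⁆ ∈ Subgroup.center K :=
      Subgroup.mem_center_iff.2 fun u => Subtype.ext (hcen u.2.1 c hcC)
    have h1 := congrArg Subtype.val (CfsgLib.PGroups.mul_pow_of_central hcent r)
    have h1' : b ^ r = y ^ r * (x ^ k) ^ r * c ^ r.choose 2 := h1
    rw [h1', ← pow_mul x, mul_comm k r, pow_mul, ← hi, ← hj, ← pow_mul, ← pow_mul, ← pow_add,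
      show j + i * k = l * r by rw [mul_comm i k, hl, mul_comm]]
  -- hence `r = 2` and `C` has order two
  obtain rfl : r = 2 := by
    by_contra hne
    obtain ⟨t, ht⟩ := hr.out.dvd_choose_self (k := 2) (by omega)
      (lt_of_le_of_ne hr.out.two_le (Ne.symm hne))
    refine hbC (hroot b hbK (g ^ l) (pow_mem hg l) ?_)
    have hcr : c ^ r = 1 := by
      obtain ⟨m, hm⟩ := Subgroup.mem_zpowers_iff.1 hcz
      rw [← hm, ← zpow_natCast, ← zpow_mul, mul_comm, zpow_mul, zpow_natCast, ← hzr, pow_orderOf_eq_one,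
        one_zpow]
    rw [hbr, ht, pow_mul, hcr, one_pow, mul_one]
  have hzz : z * z = 1 := by
    rw [← sq, ← hzr]; exact pow_orderOf_eq_one z
  have hz2 : ∀ u ∈ Subgroup.zpowers z, u = 1 ∨ u = z := by
    intro u hu
    obtain ⟨m, hm, rfl⟩ := Finset.mem_image.1
      (((isOfFinOrder_of_finite z).mem_zpowers_iff_mem_range_orderOf).1 hu)
    rw [Finset.mem_range, hzr] at hm
    rcases m with _ | _ | m
    · exact Or.inl (pow_zero z)
    · exact Or.inr (pow_one z)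
    · omega
  have hnsq : ∀ c₀ ∈ C, c₀ ^ 2 ≠ z := by
    intro c₀ hc₀ he
    rw [show Nat.choose 2 2 = 1 from rfl, pow_one] at hbr
    rcases hz2 c hcz with e' | e'
    · exact hbC (hroot b hbK (g ^ l) (pow_mem hg l) (by rw [hbr, e', mul_one]))
    · refine hbC (hroot b hbK (g ^ l * c₀) (mul_mem (pow_mem hg l) hc₀) ?_)
      rw [(show Commute (g ^ l) c₀ from hCc _ (pow_mem hg l) _ hc₀).mul_pow, hbr, e', he]
  have hC2 : ∀ u ∈ C, u = 1 ∨ u = z := by
    intro u hu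
    refine hz2 u (hzC u hu ?_)
    by_contra hne
    obtain ⟨m, -, hm⟩ := Finset.mem_image.1
      (((isOfFinOrder_of_finite (u ^ 2)).mem_zpowers_iff_mem_range_orderOf).1
        (mem_zpowers_of_ne_one hCp hz hzr (pow_mem hu 2) hne))
    exact hnsq (u ^ m) (pow_mem hu m) (by rw [← hm, ← pow_mul, ← pow_mul, mul_comm])
  have hsqz : ∀ u ∈ K, u ∉ C → u * u = z := by
    intro u hu huC
    rcases hC2 _ hu.2.1 with e' | e'
    · exact absurd (hno u hu e') huC
    · rw [← sq, e']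
  have hzi : z⁻¹ = z := inv_eq_of_mul_eq_one_left hzz
  have hkxy : x * y * x⁻¹ = z * y := by
    rcases hz2 _ (hcomm x hx y hy) with e' | e'
    · exact absurd (mul_inv_eq_iff_eq_mul.1 (mul_inv_eq_one.1 e')) hxy
    · exact mul_inv_eq_iff_eq_mul.1 e'
  have hkyx : y * x * y⁻¹ = z * x := by
    rcases hz2 _ (hcomm y hy x hx) with e' | e'
    · exact absurd (mul_inv_eq_iff_eq_mul.1 (mul_inv_eq_one.1 e')).symm hxy
    · exact mul_inv_eq_iff_eq_mul.1 e'
  -- nothing in `K` outside `C` commutes with both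
  have hK2 : ∀ w ∈ K, w * x = x * w → w * y = y * w → w ∈ C := by
    intro w hw hwx hwy
    by_contra hwC
    have h1 : (w * x) ^ 2 = 1 := by
      rw [(show Commute w x from hwx).mul_pow, sq, sq, hsqz w hw hwC, hsqz x hx hxC, hzz]
    have h2 := hcen hy.1 _ (hno _ (mul_mem hw hx) h1)
    refine hxy ?_
    calc x * y = w⁻¹ * (w * x * y) := by group
      _ = w⁻¹ * (y * (w * x)) := by rw [h2]
      _ = w⁻¹ * (y * w) * x := by group
      _ = w⁻¹ * (w * y) * x := by rw [hwy]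
      _ = _ := by group
  -- hence `R = K`
  have hRH : R ≤ H := le_inf le_rfl fun u hu => Subgroup.mem_centralizer_iff.2 fun v hv => by
    rcases hC2 v hv with rfl | rfl
    · rw [one_mul, mul_one]
    · exact hzc u hu
  set W := R ⊓ Subgroup.centralizer {x} ⊓ Subgroup.centralizer {y} with hW
  have hconj : ∀ u ∈ R, ∀ w ∈ K, u * w * u⁻¹ = w ∨ u * w * u⁻¹ = z * w := by
    intro u hu w hw
    rcases hC2 _ (hw.2.2 u hu) with e' | e'
    · exact Or.inl (mul_inv_eq_one.1 e')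
    · exact Or.inr (mul_inv_eq_iff_eq_mul.1 e')
  have hWn : ∀ u ∈ R, ∀ w ∈ W, u * w * u⁻¹ ∈ W := by
    intro u hu w hw
    have key : ∀ t ∈ K, w * t = t * w → u * w * u⁻¹ * t = t * (u * w * u⁻¹) := by
      intro t ht hwt
      have h3 : w * (u⁻¹ * t * u⁻¹⁻¹) = u⁻¹ * t * u⁻¹⁻¹ * w := by
        rcases hconj u⁻¹ (inv_mem hu) t ht with e' | e' <;> rw [e']
        · exact hwt
        · rw [← mul_assoc, ← hzc w hw.1.1, mul_assoc, hwt, mul_assoc]
      calc u * w * u⁻¹ * t = u * (w * (u⁻¹ * t * u⁻¹⁻¹)) * u⁻¹ := by group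
        _ = u * (u⁻¹ * t * u⁻¹⁻¹ * w) * u⁻¹ := by rw [h3]
        _ = _ := by group
    exact ⟨⟨R.mul_mem (R.mul_mem hu hw.1.1) (R.inv_mem hu), Subgroup.mem_centralizer_singleton_iff.2
      (key x hx (Subgroup.mem_centralizer_singleton_iff.1 hw.1.2))⟩,
      Subgroup.mem_centralizer_singleton_iff.2
        (key y hy (Subgroup.mem_centralizer_singleton_iff.1 hw.2))⟩
  have hWC : W ≤ C := by
    by_contra hne
    obtain ⟨w, hw, hwC, hw2, hwc⟩ := exists_central_mod hRp (W := W)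
      (fun c hc => ⟨⟨hCR hc, Subgroup.mem_centralizer_singleton_iff.2 (hcen hx.1 c hc).symm⟩,
        Subgroup.mem_centralizer_singleton_iff.2 (hcen hy.1 c hc).symm⟩)
      (inf_le_left.trans inf_le_left) (hRY.trans hnC) (le_normalizer_of hWn) hne
    exact hwC (hK2 w ⟨hRH hw.1.1, hw2, hwc⟩ (Subgroup.mem_centralizer_singleton_iff.1 hw.1.2)
      (Subgroup.mem_centralizer_singleton_iff.1 hw.2))
  refine hno a ?_ har
  -- adjust `a`
  obtain ⟨k₁, hk₁, hax⟩ : ∃ k₁ ∈ K, a * k₁ * x * (a * k₁)⁻¹ = x := by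
    rcases hconj a ha x hx with e' | e'
    · exact ⟨1, one_mem _, by rw [mul_one]; exact e'⟩
    · refine ⟨y, hy, ?_⟩
      calc a * y * x * (a * y)⁻¹ = a * (y * x * y⁻¹) * a⁻¹ := by group
        _ = (a * z) * x * a⁻¹ := by rw [hkyx]; group
        _ = z * (a * x * a⁻¹) := by rw [← hzc a ha]; group
        _ = z * z * x := by rw [e', mul_assoc]
        _ = x := by rw [hzz, one_mul]
  have hu : a * k₁ ∈ R := mul_mem ha (hKR hk₁)
  obtain ⟨k₂, hk₂, hay, hax'⟩ : ∃ k₂ ∈ K, a * k₁ * k₂ * y * (a * k₁ * k₂)⁻¹ = y ∧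
      a * k₁ * k₂ * x * (a * k₁ * k₂)⁻¹ = x := by
    rcases hconj _ hu y hy with e' | e'
    · exact ⟨1, one_mem _, by rw [mul_one]; exact e', by rw [mul_one]; exact hax⟩
    · refine ⟨x, hx, ?_, ?_⟩
      · generalize hu' : a * k₁ = u at hu e'
        calc u * x * y * (u * x)⁻¹ = u * (x * y * x⁻¹) * u⁻¹ := by group
          _ = (u * z) * y * u⁻¹ := by rw [hkxy]; group
          _ = z * (u * y * u⁻¹) := by rw [← hzc u hu]; group
          _ = z * z * y := by rw [e', mul_assoc]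
          _ = y := by rw [hzz, one_mul]
      · generalize hu' : a * k₁ = u at hax
        calc u * x * x * (u * x)⁻¹ = u * x * u⁻¹ := by group
          _ = x := hax
  have hw : a * k₁ * k₂ ∈ W := ⟨⟨mul_mem hu (hKR hk₂),
    Subgroup.mem_centralizer_singleton_iff.2 (mul_inv_eq_iff_eq_mul.1 hax')⟩,
    Subgroup.mem_centralizer_singleton_iff.2 (mul_inv_eq_iff_eq_mul.1 hay)⟩
  have := mul_mem (mul_mem (hCK (hWC hw)) (inv_mem hk₂)) (inv_mem hk₁)
  rwa [mul_inv_cancel_right, mul_inv_cancel_right] at this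

/-- `nStab P α ⊓ D` acts fixed-point-freely on `P`. -/
theorem fpf {l : G} (hl : l ∈ nStab P α ⊓ D) (hl1 : l ≠ 1) :
    ∀ v ∈ P, l * v = v * l → v = 1 := by
  classical
  haveI := h.data.normal
  intro v hv hc
  obtain ⟨r, hr, hrd⟩ := Nat.exists_prime_and_dvd (mt orderOf_eq_one_iff.1 hl1)
  haveI := Fact.mk hr
  obtain ⟨m, hm⟩ := hrd
  set b := l ^ m with hb
  have hbo : orderOf b = r := by
    have hm0 : m ≠ 0 := by
      rintro rfl
      exact (orderOf_pos l).ne' (by rw [hm, mul_zero])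
    rw [hb, orderOf_pow_of_dvd hm0 (Dvd.intro_left r hm.symm), hm,
      Nat.mul_div_cancel _ (Nat.pos_of_ne_zero hm0)]
  have hbv : b * v = v * b := ((show Commute l v from hc).pow_left m).eq
  obtain ⟨R, hRle, hRp, hRu, -, hY1⟩ := frattini (D := D) h.cov r
  have hbL : b ∈ nStab P α ⊓ D := pow_mem hl m
  set L := nStab P α ⊓ D with hL
  let S : Sylow r L :=
    { toSubgroup := R.subgroupOf L
      isPGroup' := hRp.comap_of_injective L.subtype L.subtype_injective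
      is_maximal' := by
        intro Q hQ hle
        have h1 := hRu (Q.map L.subtype) (Subgroup.map_subtype_le _) (hQ.map _) (by
          intro x hx
          exact ⟨⟨x, hRle hx⟩, hle hx, rfl⟩)
        rw [← h1]
        exact (Subgroup.comap_map_eq_self_of_injective L.subtype_injective Q).symm }
  have hbp : IsPGroup r (Subgroup.zpowers (⟨b, hbL⟩ : L)) :=
    IsPGroup.iff_card.2 ⟨1, by rw [Nat.card_zpowers, ← Subgroup.orderOf_coe, hbo, pow_one]⟩
  obtain ⟨T, hT⟩ := hbp.exists_le_sylow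
  obtain ⟨x, hx⟩ := MulAction.exists_smul_eq L T S
  have hmem : (x : G) * b * (x : G)⁻¹ ∈ R := by
    have h1 : MulAut.conj x • (⟨b, hbL⟩ : L) ∈ (MulAut.conj x • (T : Subgroup L)) :=
      Subgroup.smul_mem_pointwise_smul _ _ _ (hT (Subgroup.mem_zpowers _))
    have h2 : (MulAut.conj x • (T : Subgroup L) : Subgroup L) = (S : Subgroup L) := by
      rw [← hx]; rfl
    rw [h2] at h1
    exact h1
  have hfix := fpf_of_prime h (r := r) (Y := nStab P α ⊓ Subgroup.normalizer (R : Set G))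
    hY1 inf_le_left (le_inf (le_inf (hRle.trans inf_le_left) Subgroup.le_normalizer)
      (hRle.trans inf_le_right))
    (fun y hy u hu => (Subgroup.mem_normalizer_iff.1 hy.2 u).1 hu) hRp hmem
    (by rw [conj_pow, ← hbo, pow_orderOf_eq_one, mul_one, mul_inv_cancel])
    (fun e' => hr.ne_one (by rw [← hbo, conj_eq_one_iff.1 e', orderOf_one]))
    ((x : G) * v * (x : G)⁻¹) (conj_mem h x.2.1 hv) (by
      calc (x : G) * b * (x : G)⁻¹ * ((x : G) * v * (x : G)⁻¹) = x * (b * v) * (x : G)⁻¹ := by group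
        _ = x * (v * b) * (x : G)⁻¹ := by rw [hbv]
        _ = _ := by group)
  exact conj_eq_one_iff.1 hfix

end CfsgLib.Perm.DerangeIndex
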