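import Cfsg.Agent.Lib.Perm.DerangeIndex.Regular
import Cfsg.Agent.Lib.Perm.DerangeIndex.Arith
import Cfsg.Agent.Lib.CharDegree.NoDiv.Counting

/-!
# Normalised subgroups of `N_{D_α}(P)` act without fixed points

* `fpf_of_abelian`: an abelian subgroup normalised by a supplement is fixed-point-free on `P`.
* `eq_center_of_spread`: an `r`-subgroup `E` normalised by a supplement, in which every noncentral
  element `a` of order `r` is conjugate to all `a * z ^ i`, has only the `r` powers of `z` of order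
  dividing `r`.
-/

set_option autoImplicit false
set_option linter.all false

namespace CfsgLib.Perm.DerangeIndex

open MulAction

variable {G Ω : Type*} [Group G] [MulAction G Ω] [Finite G] [Finite Ω] [FaithfulSMul G Ω]
variable {D P : Subgroup G} {α : Ω} {p e : ℕ} (h : RData D P α p e)
include h

omit [FaithfulSMul G Ω] in
theorem not_dvd_of_le {A : Subgroup G} (hA : A ≤ nStab P α ⊓ D) : ¬ p ∣ Nat.card A := fun hd =>
  h.cop (hd.trans (Subgroup.card_dvd_of_le
    (hA.trans (le_inf inf_le_right (inf_le_left.trans inf_le_right)))))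

omit [FaithfulSMul G Ω] in
theorem two_le_of_ne_one {W : Subgroup G} {w : G} (hw : w ∈ W) (hw1 : w ≠ 1) : 2 ≤ Nat.card W := by
  haveI : Nontrivial W := ⟨⟨⟨w, hw⟩, 1, fun e' => hw1 (congrArg Subtype.val e')⟩⟩
  exact Finite.one_lt_card

theorem exists_ne_one : ∃ v ∈ P, v ≠ 1 := by
  haveI : Nontrivial P := by
    rw [← Finite.one_lt_card_iff_nontrivial, h.card_P]
    exact Nat.one_lt_pow (e_pos h).ne' h.prime.one_lt
  obtain ⟨⟨v, hv⟩, hv1⟩ := exists_ne (1 : P)
  exact ⟨v, hv, fun e' => hv1 (Subtype.ext e')⟩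

/-- Fixed subgroups with pairwise trivial meets of an abelian subgroup are independent. -/
theorem prod_card_inf_centralizer_le {A : Subgroup G} (hA : A ≤ nStab P α ⊓ D)
    (hAc : ∀ a ∈ A, ∀ b ∈ A, a * b = b * a) (Bs : Finset (Subgroup G)) (hBA : ∀ B ∈ Bs, B ≤ A)
    (hdis : ∀ B ∈ Bs, ∀ B' ∈ Bs, B ≠ B' → ∀ v ∈ P, (∀ b ∈ B, b * v = v * b) →
      (∀ b ∈ B', b * v = v * b) → v = 1) :
    ∏ B ∈ Bs, Nat.card (P ⊓ Subgroup.centralizer (B : Set G) : Subgroup G) ≤ Nat.card P := by
  classical
  letI : CommGroup A := { (inferInstance : Group A) with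
    mul_comm := fun a b => Subtype.ext (hAc a a.2 b b.2) }
  letI : CommGroup P := { (inferInstance : Group P) with
    mul_comm := fun a b => Subtype.ext (comm h a.2 b.2) }
  let φ : A →* MulAut P := (Subgroup.normalizerMonoidHom P).comp
    (Subgroup.inclusion (show A ≤ Subgroup.normalizer (P : Set G) from fun a ha => (hA ha).1.1))
  have hval : ∀ (a : A) (v : P), ((φ a v : P) : G) = (a : G) * v * (a : G)⁻¹ := fun a v => rfl
  have hco : (Nat.card A).Coprime (Nat.card P) := by
    rw [h.card_P]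
    exact Nat.Coprime.pow_right e (h.prime.coprime_iff_not_dvd.2 (not_dvd_of_le h hA)).symm
  have hfix : ∀ (B : Subgroup G), B ≤ A → ∀ v : P, v ∈ fixSub φ (B.subgroupOf A) ↔
      ∀ b ∈ B, b * (v : G) = v * b := by
    intro B hB v
    refine ⟨fun hv b hb => ?_, fun hv b hb => ?_⟩
    · exact mul_inv_eq_iff_eq_mul.1 ((hval ⟨b, hB hb⟩ v).symm.trans
        (congrArg Subtype.val (hv ⟨b, hB hb⟩ hb)))
    · exact Subtype.ext ((hval b v).trans (mul_inv_eq_iff_eq_mul.2 (hv b hb)))
  have hinj : Set.InjOn (fun B : Subgroup G => B.subgroupOf A) ↑Bs := by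
    intro B hB B' hB' he
    have h1 := congrArg (Subgroup.map A.subtype) he
    simp only [Subgroup.map_subgroupOf_eq_of_le (hBA B hB),
      Subgroup.map_subgroupOf_eq_of_le (hBA B' hB')] at h1
    exact h1
  have key := prod_card_fix_le φ hco (Bs.image fun B => B.subgroupOf A) (by
    intro X hX X' hX' hne v hv hv'
    obtain ⟨B, hB, rfl⟩ := Finset.mem_image.1 hX
    obtain ⟨B', hB', rfl⟩ := Finset.mem_image.1 hX'
    exact Subtype.ext (hdis B hB B' hB' (fun e' => hne (by rw [e'])) v v.2
      ((hfix B (hBA B hB) v).1 hv) ((hfix B' (hBA B' hB') v).1 hv')))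
  rw [Finset.prod_image hinj] at key
  refine le_of_eq_of_le (Finset.prod_congr rfl fun B hB => ?_) key
  refine Nat.card_congr
    { toFun := fun x => ⟨⟨x, x.2.1⟩, (hfix B (hBA B hB) _).2 fun b hb =>
        Subgroup.mem_centralizer_iff.1 x.2.2 b hb⟩
      invFun := fun x => ⟨(x : P), (x : P).2, Subgroup.mem_centralizer_iff.2 fun b hb =>
        (hfix B (hBA B hB) _).1 x.2 b hb⟩
      left_inv := fun x => rfl
      right_inv := fun x => rfl }

/-- An abelian subgroup normalised by a supplement acts fixed-point-freely. -/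
theorem fpf_of_abelian {Y : Subgroup G} (hY : Y ⊔ D = ⊤) (hYn : Y ≤ nStab P α) {A : Subgroup G}
    (hAY : A ≤ Y ⊓ D) (hAn : ∀ y ∈ Y, ∀ a ∈ A, y * a * y⁻¹ ∈ A)
    (hAc : ∀ a ∈ A, ∀ b ∈ A, a * b = b * a) :
    ∀ a ∈ A, a ≠ 1 → ∀ v ∈ P, a * v = v * a → v = 1 := by
  classical
  haveI := Fintype.ofFinite G
  intro a₁ ha₁ ha₁1 v₁ hv₁ hav
  by_contra hv₁1
  let st : G → Subgroup G := fun v => A ⊓ Subgroup.centralizer {v}
  obtain ⟨v₀, hv₀, hmax⟩ := Finset.exists_max_image
    (Finset.univ.filter fun v : G => v ∈ P ∧ v ≠ 1) (fun v => Nat.card (st v))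
    ⟨v₁, Finset.mem_filter.2 ⟨Finset.mem_univ _, hv₁, hv₁1⟩⟩
  simp only [Finset.mem_filter, Finset.mem_univ, true_and] at hv₀ hmax
  set B₀ := st v₀ with hB₀
  have hB₀A : B₀ ≤ A := inf_le_left
  have hB₀1 : B₀ ≠ ⊥ := by
    intro e'
    have h1 := hmax v₁ ⟨hv₁, hv₁1⟩
    have h2 := two_le_of_ne_one h
      (show a₁ ∈ st v₁ from ⟨ha₁, Subgroup.mem_centralizer_singleton_iff.2 hav⟩) ha₁1
    rw [e', Subgroup.card_bot] at h1
    omega
  let cj : G → Subgroup G := fun y => B₀.map (MulAut.conj y).toMonoidHom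
  set Bs := (Finset.univ.filter fun y : G => y ∈ Y).image cj with hBs
  have hB : ∀ B ∈ Bs, B ≤ A ∧ Nat.card B = Nat.card B₀ ∧
      Nat.card (P ⊓ Subgroup.centralizer (B : Set G) : Subgroup G) =
        Nat.card (P ⊓ Subgroup.centralizer (B₀ : Set G) : Subgroup G) := by
    intro B hB
    obtain ⟨y, hy, rfl⟩ := Finset.mem_image.1 hB
    have hy' : y ∈ Y := (Finset.mem_filter.1 hy).2
    refine ⟨?_, Subgroup.card_map_of_injective (MulAut.conj y).injective, ?_⟩
    · rintro _ ⟨b, hb, rfl⟩
      exact hAn y hy' b (hB₀A hb)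
    · refine Nat.card_congr
        { toFun := fun x => ⟨y⁻¹ * x * y, ?_, ?_⟩
          invFun := fun x => ⟨y * x * y⁻¹, ?_, ?_⟩
          left_inv := fun x => Subtype.ext (by group)
          right_inv := fun x => Subtype.ext (by group) }
      · have := conj_mem h (inv_mem (hYn hy')) x.2.1
        rwa [inv_inv] at this
      · refine Subgroup.mem_centralizer_iff.2 fun b hb => ?_
        have h1 := Subgroup.mem_centralizer_iff.1 x.2.2 _ ⟨b, hb, rfl⟩
        have h1' : y * b * y⁻¹ * (x : G) = (x : G) * (y * b * y⁻¹) := h1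
        calc b * (y⁻¹ * x * y) = y⁻¹ * (y * b * y⁻¹ * x) * y := by group
          _ = y⁻¹ * ((x : G) * (y * b * y⁻¹)) * y := by rw [h1']
          _ = _ := by group
      · exact conj_mem h (hYn hy') x.2.1
      · refine Subgroup.mem_centralizer_iff.2 ?_
        rintro _ ⟨b, hb, rfl⟩
        show y * b * y⁻¹ * (y * x * y⁻¹) = y * x * y⁻¹ * (y * b * y⁻¹)
        have h1 := Subgroup.mem_centralizer_iff.1 x.2.2 b hb
        calc y * b * y⁻¹ * (y * x * y⁻¹) = y * (b * x) * y⁻¹ := by group
          _ = y * (x * b) * y⁻¹ := by rw [h1]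
          _ = _ := by group
  have hdis : ∀ B ∈ Bs, ∀ B' ∈ Bs, B ≠ B' → ∀ v ∈ P, (∀ b ∈ B, b * v = v * b) →
      (∀ b ∈ B', b * v = v * b) → v = 1 := by
    intro B hB1 B' hB'1 hne v hv hBv hB'v
    by_contra hv1
    have key : ∀ X ∈ Bs, (∀ b ∈ X, b * v = v * b) → X = st v := fun X hX hXv =>
      Subgroup.eq_of_le_of_card_ge
        (le_inf (hB X hX).1 fun b hb => Subgroup.mem_centralizer_singleton_iff.2 (hXv b hb))
        (by rw [(hB X hX).2.1]; exact hmax v ⟨hv, hv1⟩)
    exact hne ((key B hB1 hBv).trans (key B' hB'1 hB'v).symm)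
  set W₀ := P ⊓ Subgroup.centralizer (B₀ : Set G) with hW₀
  set q := Nat.card W₀ with hq
  have hv₀W : v₀ ∈ W₀ := ⟨hv₀.1, Subgroup.mem_centralizer_iff.2 fun b hb =>
    Subgroup.mem_centralizer_singleton_iff.1 hb.2⟩
  have hq2 : 2 ≤ q := two_le_of_ne_one h hv₀W hv₀.2
  have hB₀mem : B₀ ∈ Bs := Finset.mem_image.2 ⟨1, Finset.mem_filter.2 ⟨Finset.mem_univ _, Y.one_mem⟩,
    by show B₀.map (MulAut.conj (1 : G)).toMonoidHom = B₀; rw [map_one]; exact B₀.map_id⟩
  have hprod : q ^ Bs.card ≤ Nat.card Ω := by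
    have := prod_card_inf_centralizer_le h (hAY.trans (inf_le_inf_right _ hYn)) hAc Bs
      (fun B hB' => (hB B hB').1) hdis
    rw [Finset.prod_congr rfl fun B hB' => (hB B hB').2.2, Finset.prod_const, h.card_P,
      ← h.card_eq] at this
    exact this
  have ht : 2 ≤ Bs.card := by
    by_contra hlt
    have h1 : Bs = {B₀} :=
      Finset.eq_singleton_iff_unique_mem.2 ⟨hB₀mem, fun B hB' => by
        exact Finset.card_le_one.1 (by omega) B hB' B₀ hB₀mem⟩
    have hn : ∀ y ∈ Y, ∀ w ∈ W₀, y * w * y⁻¹ ∈ W₀ := by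
      intro y hy w hw
      refine ⟨conj_mem h (hYn hy) hw.1, Subgroup.mem_centralizer_iff.2 fun b hb => ?_⟩
      have hcj : cj y⁻¹ = B₀ := by
        have : cj y⁻¹ ∈ Bs :=
          Finset.mem_image.2 ⟨y⁻¹, Finset.mem_filter.2 ⟨Finset.mem_univ _, inv_mem hy⟩, rfl⟩
        rwa [h1, Finset.mem_singleton] at this
      have hb' : y⁻¹ * b * y⁻¹⁻¹ ∈ B₀ :=
        (le_of_eq hcj) (Subgroup.mem_map_of_mem (MulAut.conj y⁻¹).toMonoidHom hb)
      rw [inv_inv] at hb'
      have h2 := Subgroup.mem_centralizer_iff.1 hw.2 _ hb'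
      calc b * (y * w * y⁻¹) = y * (y⁻¹ * b * y * w) * y⁻¹ := by group
        _ = y * (w * (y⁻¹ * b * y)) * y⁻¹ := by rw [h2]
        _ = _ := by group
    rcases inv_eq h hY hYn (inf_le_left : W₀ ≤ P) hn with e' | e'
    · exact hv₀.2 (Subgroup.mem_bot.1 ((le_of_eq e') hv₀W))
    · refine hB₀1 ((Subgroup.eq_bot_iff_forall _).2 fun b hb =>
        eq_one_of_commute h (hYn (hAY hb.1).1).2 fun v hv => ?_)
      exact Subgroup.mem_centralizer_iff.1 ((le_of_eq e'.symm) hv).2 b hb
  -- count
  have hsplit : 2 * Nat.card B₀ ≤ Nat.card A := by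
    obtain ⟨B, hB', hne⟩ := Finset.exists_mem_ne (by omega : 1 < Bs.card) B₀
    have hlt : B₀ ≠ A := by
      intro e'
      refine hne (Subgroup.eq_of_le_of_card_ge (e' ▸ (hB B hB').1) ?_)
      rw [(hB B hB').2.1]
    obtain ⟨c, hc⟩ := Subgroup.card_dvd_of_le hB₀A
    rcases c with _ | _ | c
    · exact absurd hc (by simp [Nat.card_pos.ne'])
    · exact absurd (Subgroup.eq_of_le_of_card_ge hB₀A (by rw [hc]; simp)) hlt
    · rw [hc]; nlinarith
  set S : Set G := {u | u ∈ P ∧ u ≠ 1 ∧ ∃ B ∈ Bs, ∀ b ∈ B, b * u = u * b} with hS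
  have hScard : S.ncard ≤ Bs.card * (q - 1) := by
    have hsub : S ⊆ ↑(Bs.biUnion fun B =>
        (Finset.univ.filter fun u : G => u ∈ P ⊓ Subgroup.centralizer (B : Set G)).erase 1) := by
      rintro u ⟨hu, hu1, B, hB', hBu⟩
      simp only [Finset.coe_biUnion, Set.mem_iUnion, Finset.mem_coe, Finset.mem_erase,
        Finset.mem_filter, Finset.mem_univ, true_and]
      exact ⟨B, hB', hu1, hu, Subgroup.mem_centralizer_iff.2 hBu⟩
    refine (Set.ncard_le_ncard hsub (Set.toFinite _)).trans ?_
    rw [Set.ncard_coe_finset]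
    refine (Finset.card_biUnion_le_card_mul _ _ (q - 1) fun B hB' => ?_)
    rw [Finset.card_erase_of_mem (by simp [one_mem]), ← Fintype.card_subtype,
      ← Nat.card_eq_fintype_card]
    exact le_of_eq (congrArg (· - 1) ((hB B hB').2.2))
  have hSinv : ∀ y ∈ Y, ∀ u ∈ S, y * u * y⁻¹ ∈ S := by
    rintro y hy u ⟨hu, hu1, B, hB', hBu⟩
    obtain ⟨z, hz, rfl⟩ := Finset.mem_image.1 hB'
    refine ⟨conj_mem h (hYn hy) hu, fun e' => hu1 (conj_eq_one_iff.1 e'), cj (y * z),
      Finset.mem_image.2 ⟨y * z, Finset.mem_filter.2 ⟨Finset.mem_univ _,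
        mul_mem hy (Finset.mem_filter.1 hz).2⟩, rfl⟩, ?_⟩
    rintro _ ⟨b, hb, rfl⟩
    have h1 : z * b * z⁻¹ * u = u * (z * b * z⁻¹) := hBu _ ⟨b, hb, rfl⟩
    show y * z * b * (y * z)⁻¹ * (y * u * y⁻¹) = y * u * y⁻¹ * (y * z * b * (y * z)⁻¹)
    calc y * z * b * (y * z)⁻¹ * (y * u * y⁻¹) = y * (z * b * z⁻¹ * u) * y⁻¹ := by group
      _ = y * (u * (z * b * z⁻¹)) * y⁻¹ := by rw [h1]
      _ = _ := by group
  have hc := (count h hY hYn hv₀.1 hv₀.2 S (fun u hu => hu.1) hSinv
    ⟨hv₀.1, hv₀.2, B₀, hB₀mem, fun b hb => Subgroup.mem_centralizer_singleton_iff.1 hb.2⟩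
    (R := A) hAY).1
  refine h.bad ((sq_le_of_half hq2 ht ?_).trans hprod)
  have h1 : D.index * (2 * Nat.card B₀) ≤ Bs.card * (q - 1) * Nat.card B₀ :=
    le_trans (Nat.mul_le_mul_left _ hsplit) (le_trans hc (Nat.mul_le_mul_right _ hScard))
  rw [← mul_assoc, mul_comm D.index 2] at h1
  exact Nat.le_of_mul_le_mul_right h1 Nat.card_pos

/-- An abelian subgroup normalised by a supplement is cyclic. -/
theorem isCyclic_of_fpf_abelian {A : Subgroup G} (hA : A ≤ nStab P α)
    (hAc : ∀ a ∈ A, ∀ b ∈ A, a * b = b * a)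
    (hfp : ∀ a ∈ A, a ≠ 1 → ∀ v ∈ P, a * v = v * a → v = 1) : IsCyclic A := by
  letI : CommGroup A := { (inferInstance : Group A) with
    mul_comm := fun a b => Subtype.ext (hAc a a.2 b b.2) }
  letI : CommGroup P := { (inferInstance : Group P) with
    mul_comm := fun a b => Subtype.ext (comm h a.2 b.2) }
  haveI : Nontrivial P := by
    rw [← Finite.one_lt_card_iff_nontrivial, h.card_P]
    exact Nat.one_lt_pow (e_pos h).ne' h.prime.one_lt
  refine CfsgLib.NoDiv.isCyclic_of_fpf ((Subgroup.normalizerMonoidHom P).comp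
    (Subgroup.inclusion (show A ≤ Subgroup.normalizer (P : Set G) from fun a ha => (hA ha).1)))
    fun a ha v hv => ?_
  refine Subtype.ext (hfp a a.2 (fun e' => ha (Subtype.ext e')) v v.2 ?_)
  exact mul_inv_eq_iff_eq_mul.1 (congrArg Subtype.val hv)

/-- The spreading lemma. -/
theorem eq_center_of_spread {Y : Subgroup G} (hY : Y ⊔ D = ⊤) (hYn : Y ≤ nStab P α)
    {E : Subgroup G} (hEY : E ≤ Y ⊓ D) (hEn : ∀ y ∈ Y, ∀ x ∈ E, y * x * y⁻¹ ∈ E) {r : ℕ}
    [hr : Fact r.Prime] (hEr : IsPGroup r E) {z : G} (hz : z ∈ E) (hzr : orderOf z = r)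
    (hzc : ∀ x ∈ E, z * x = x * z) (hzfp : ∀ v ∈ P, z * v = v * z → v = 1)
    (H1 : ∀ a ∈ E, a ^ r = 1 → (¬ ∀ x ∈ E, a * x = x * a) → ∀ i : ℕ, ∃ x ∈ E,
      x * a * x⁻¹ = a * z ^ i)
    (H2 : ∀ x ∈ E, z ∉ Subgroup.zpowers x → x ^ r = 1)
    (H3 : ∀ c ∈ E, (∀ x ∈ E, c * x = x * c) → c ^ r = 1 → c ∈ Subgroup.zpowers z) :
    ∀ a ∈ E, a ^ r = 1 → a ∈ Subgroup.zpowers z := by
  classical
  haveI := Fintype.ofFinite G
  intro a₁ ha₁ ha₁r
  by_contra ha₁z
  set I := Finset.univ.filter fun a : G => a ∈ E ∧ a ^ r = 1 ∧ ¬ ∀ x ∈ E, a * x = x * a with hI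
  have hIne : I.Nonempty := ⟨a₁, Finset.mem_filter.2 ⟨Finset.mem_univ _, ha₁, ha₁r,
    fun hc => ha₁z (H3 a₁ ha₁ hc ha₁r)⟩⟩
  let C : G → Subgroup G := fun a => P ⊓ Subgroup.centralizer (Subgroup.zpowers a : Set G)
  have hCmem : ∀ a v : G, v ∈ P → a * v = v * a → v ∈ C a := fun a v hv hc =>
    ⟨hv, Subgroup.mem_centralizer_iff.2 fun b hb => by
      obtain ⟨k, rfl⟩ := Subgroup.mem_zpowers_iff.1 hb
      exact (Commute.zpow_left hc k).eq⟩
  have hCof : ∀ a v : G, v ∈ C a → a * v = v * a := fun a v hv =>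
    Subgroup.mem_centralizer_iff.1 hv.2 a (Subgroup.mem_zpowers a)
  have hz1 : z ≠ 1 := fun e' => hr.out.ne_one (by rw [← hzr, e', orderOf_one])
  have hzpow : ∀ j : ℕ, ¬ r ∣ j → ∀ v ∈ P, z ^ j * v = v * z ^ j → v = 1 := by
    intro j hj v hv hc
    obtain ⟨m, hm⟩ := exists_pow_eq_self_of_coprime (x := z) (n := j)
      (by rw [hzr]; exact (hr.out.coprime_iff_not_dvd.2 hj).symm)
    have h1 : Commute ((z ^ j) ^ m) v := (show Commute (z ^ j) v from hc).pow_left m
    rw [hm] at h1
    exact hzfp v hv h1.eq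
  -- the translates of an element of `I`
  have hspread : ∀ a ∈ I, (∀ i, (∃ x ∈ E, x * a * x⁻¹ = a * z ^ i) ∧
        Nat.card (C (a * z ^ i)) = Nat.card (C a)) ∧
      Nat.card (C a) ^ r ≤ Nat.card Ω ∧ 2 ≤ Nat.card (C a) := by
    intro a ha
    obtain ⟨-, haE, har, hanc⟩ := Finset.mem_filter.1 ha
    have hconj : ∀ i, (∃ x ∈ E, x * a * x⁻¹ = a * z ^ i) ∧
        Nat.card (C (a * z ^ i)) = Nat.card (C a) := by
      intro i
      obtain ⟨x, hx, hxe⟩ := H1 a haE har hanc i
      refine ⟨⟨x, hx, hxe⟩, ?_⟩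
      have hxn := hYn (hEY hx).1
      refine Nat.card_congr
        { toFun := fun v => ⟨x⁻¹ * v * x, hCmem _ _ ?_ ?_⟩
          invFun := fun v => ⟨x * v * x⁻¹, hCmem _ _ ?_ ?_⟩
          left_inv := fun v => Subtype.ext (by group)
          right_inv := fun v => Subtype.ext (by group) }
      · have := conj_mem h (inv_mem hxn) v.2.1
        rwa [inv_inv] at this
      · have h1 : x * a * x⁻¹ * (v : G) = (v : G) * (x * a * x⁻¹) := by
          rw [hxe]; exact hCof _ _ v.2
        calc a * (x⁻¹ * v * x) = x⁻¹ * (x * a * x⁻¹ * v) * x := by group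
          _ = x⁻¹ * ((v : G) * (x * a * x⁻¹)) * x := by rw [h1]
          _ = _ := by group
      · exact conj_mem h hxn v.2.1
      · have h1 := hCof _ _ v.2
        rw [← hxe]
        calc x * a * x⁻¹ * (x * v * x⁻¹) = x * (a * v) * x⁻¹ := by group
          _ = x * ((v : G) * a) * x⁻¹ := by rw [h1]
          _ = _ := by group
    have haz : a * z = z * a := (hzc a haE).symm
    set A := Subgroup.closure ({a, z} : Set G) with hA
    have hAE : A ≤ E := (Subgroup.closure_le _).2 (by
      rintro x (rfl | rfl)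
      · exact haE
      · exact hz)
    haveI : IsMulCommutative A := Subgroup.isMulCommutative_closure (by
      rintro x (rfl | rfl) y (rfl | rfl)
      · rfl
      · exact haz
      · exact haz.symm
      · rfl)
    have hAc : ∀ x ∈ A, ∀ y ∈ A, x * y = y * x := fun x hx y hy =>
      congrArg Subtype.val (mul_comm' (⟨x, hx⟩ : A) ⟨y, hy⟩)
    have hne : 2 ≤ Nat.card (C a) := by
      by_contra hlt
      have hbot : ∀ i, ∀ v ∈ P, (a * z ^ i) * v = v * (a * z ^ i) → v = 1 := by
        intro i v hv hc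
        by_contra hv1
        have := two_le_of_ne_one h (hCmem _ _ hv hc) hv1
        rw [(hconj i).2] at this
        omega
      have hAexp : ∀ x ∈ A, ∃ i j : ℕ, x = a ^ i * z ^ j := by
        intro x hx
        induction hx using Subgroup.closure_induction with
        | mem x hx =>
          rcases hx with rfl | rfl
          · exact ⟨1, 0, by simp⟩
          · exact ⟨0, 1, by simp⟩
        | one => exact ⟨0, 0, by simp⟩
        | mul x y _ _ hx hy =>
          obtain ⟨i, j, rfl⟩ := hx
          obtain ⟨i', j', rfl⟩ := hy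
          refine ⟨i + i', j + j', ?_⟩
          rw [pow_add, pow_add, mul_assoc, ← mul_assoc (z ^ j), ((show Commute z a from haz.symm).pow_pow j i').eq]
          group
        | inv x _ hx =>
          obtain ⟨i, j, rfl⟩ := hx
          refine ⟨i * (r - 1), j * (r - 1), ?_⟩
          have hzr' : z ^ r = 1 := by rw [← hzr]; exact pow_orderOf_eq_one z
          refine inv_eq_of_mul_eq_one_right ?_
          rw [mul_assoc, ← mul_assoc (z ^ j), ((show Commute z a from haz.symm).pow_pow j (i * (r - 1))).eq,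
            mul_assoc, ← pow_add, ← mul_assoc, ← pow_add]
          have hr1 : 1 ≤ r := hr.out.one_lt.le
          have e1 : ∀ k : ℕ, k + k * (r - 1) = r * k := fun k => by
            obtain ⟨r', rfl⟩ : ∃ r', r = r' + 1 := ⟨r - 1, by omega⟩
            rw [Nat.add_sub_cancel]; ring
          rw [e1, e1, pow_mul, pow_mul, har, hzr', one_pow, one_pow, one_mul]
      have hAfp : ∀ x ∈ A, x ≠ 1 → ∀ v ∈ P, x * v = v * x → v = 1 := by
        intro x hx hx1 v hv hc
        obtain ⟨i, j, rfl⟩ := hAexp x hx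
        by_cases hi : r ∣ i
        · obtain ⟨k, rfl⟩ := hi
          rw [pow_mul, har, one_pow, one_mul] at hx1 hc
          refine hzpow j (fun hj => hx1 ?_) v hv hc
          obtain ⟨l, rfl⟩ := hj
          rw [pow_mul, show z ^ r = 1 by rw [← hzr]; exact pow_orderOf_eq_one z, one_pow]
        · obtain ⟨m, hm⟩ := exists_pow_eq_self_of_coprime (x := a) (n := i) (by
            have : orderOf a ∣ r := orderOf_dvd_of_pow_eq_one har
            exact ((hr.out.coprime_iff_not_dvd.2 hi).symm).coprime_dvd_right this)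
          refine hbot (j * m) v hv ?_
          have h1 : Commute ((a ^ i * z ^ j) ^ m) v := (show Commute _ v from hc).pow_left m
          rw [((show Commute a z from haz).pow_pow i j).mul_pow, hm, ← pow_mul] at h1
          exact h1.eq
      haveI := isCyclic_of_fpf_abelian h (hAE.trans (fun x hx => hYn (hEY hx).1)) hAc hAfp
      obtain ⟨g, hg⟩ := IsCyclic.exists_generator (α := A)
      have hgr : g ^ r = 1 := by
        refine Subtype.ext ?_
        obtain ⟨i, j, hij⟩ := hAexp g g.2
        rw [Subgroup.coe_pow, hij, ((show Commute a z from haz).pow_pow i j).mul_pow, ← pow_mul,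
          ← pow_mul, mul_comm i, mul_comm j, pow_mul, pow_mul, har,
          show z ^ r = 1 by rw [← hzr]; exact pow_orderOf_eq_one z]
        simp
      have hle : A ≤ Subgroup.zpowers z := by
        have hc : Nat.card A ≤ r := by
          rw [← orderOf_eq_card_of_forall_mem_zpowers hg]
          exact Nat.le_of_dvd hr.out.pos (orderOf_dvd_of_pow_eq_one hgr)
        have hzA : Subgroup.zpowers z ≤ A :=
          Subgroup.zpowers_le.2 (Subgroup.subset_closure (Or.inr rfl))
        exact (Subgroup.eq_of_le_of_card_ge hzA (by rw [Nat.card_zpowers, hzr]; exact hc)).ge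
      refine hanc fun x hx => ?_
      obtain ⟨k, rfl⟩ := Subgroup.mem_zpowers_iff.1 (hle (Subgroup.subset_closure (Or.inl rfl)))
      exact ((show Commute z x from hzc x hx).zpow_left k).eq
    refine ⟨hconj, ?_, hne⟩
    -- independence
    have hinjB : ∀ i < r, ∀ j < r, i ≠ j → ∀ v ∈ P, (a * z ^ i) * v = v * (a * z ^ i) →
        (a * z ^ j) * v = v * (a * z ^ j) → v = 1 := by
      intro i hi j hj hij v hv h1 h2
      wlog hlt : i < j generalizing i j
      · exact this j hj i hi (Ne.symm hij) h2 h1 (by omega)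
      refine hzpow (j - i) (fun hd => by
        have := Nat.le_of_dvd (by omega) hd; omega) v hv ?_
      have e1 : z ^ (j - i) = (a * z ^ i)⁻¹ * (a * z ^ j) := by
        rw [mul_inv_rev, mul_assoc, inv_mul_cancel_left, eq_inv_mul_iff_mul_eq, ← pow_add]
        congr 1
        omega
      rw [e1]
      exact (((show Commute _ v from h1).inv_left).mul_left h2).eq
    set Bs := (Finset.range r).image fun i => Subgroup.zpowers (a * z ^ i) with hBs
    have hinj : Set.InjOn (fun i : ℕ => Subgroup.zpowers (a * z ^ i)) ↑(Finset.range r) := by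
      intro i hi j hj he
      by_contra hij
      obtain ⟨v, hvC, hv1⟩ : ∃ v ∈ C (a * z ^ i), v ≠ 1 := by
        by_contra hc
        push Not at hc
        have hb := (Subgroup.eq_bot_iff_forall _).2 hc
        have := (hconj i).2
        rw [hb, Subgroup.card_bot] at this
        omega
      have he' : Subgroup.zpowers (a * z ^ i) = Subgroup.zpowers (a * z ^ j) := he
      exact hv1 (hinjB i (Finset.mem_range.1 hi) j (Finset.mem_range.1 hj) hij v hvC.1 (hCof _ _ hvC)
        (Subgroup.mem_centralizer_iff.1 hvC.2 _ (by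
          rw [he']; exact Subgroup.mem_zpowers _)))
    have := prod_card_inf_centralizer_le h (hAE.trans (hEY.trans (inf_le_inf_right _ hYn))) hAc Bs
      (by
        intro B hB
        obtain ⟨i, -, rfl⟩ := Finset.mem_image.1 hB
        exact Subgroup.zpowers_le.2 (mul_mem (show a ∈ A from Subgroup.subset_closure (Or.inl rfl))
          (pow_mem (show z ∈ A from Subgroup.subset_closure (Or.inr rfl)) i)))
      (by
        intro B hB B' hB' hne' v hv hB1 hB2
        obtain ⟨i, hi, rfl⟩ := Finset.mem_image.1 hB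
        obtain ⟨j, hj, rfl⟩ := Finset.mem_image.1 hB'
        exact hinjB i (Finset.mem_range.1 hi) j (Finset.mem_range.1 hj)
          (fun e' => hne' (by rw [e'])) v hv (hB1 _ (Subgroup.mem_zpowers _))
          (hB2 _ (Subgroup.mem_zpowers _)))
    rw [Finset.prod_image hinj,
      Finset.prod_congr rfl (g := fun _ => Nat.card (C a)) (fun i _ => (hconj i).2),
      Finset.prod_const, Finset.card_range, h.card_P, ← h.card_eq] at this
    exact this
  obtain ⟨a₀, ha₀, hamax⟩ := Finset.exists_max_image I (fun a => Nat.card (C a)) hIne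
  obtain ⟨-, hqn, hq2⟩ := hspread a₀ ha₀
  obtain ⟨-, ha₀E, ha₀r, ha₀nc⟩ := Finset.mem_filter.1 ha₀
  set q := Nat.card (C a₀) with hq
  have ha₀1 : a₀ ≠ 1 := fun e' => ha₀nc fun x _ => by rw [e', one_mul, mul_one]
  -- properties of a stabiliser
  have hBI : ∀ v ∈ P, v ≠ 1 → ∀ b ∈ E, b * v = v * b → b ≠ 1 → b ∈ I := by
    intro v hv hv1 b hb hbv hb1
    have hzb : z ∉ Subgroup.zpowers b := fun hm => by
      obtain ⟨k, hk⟩ := Subgroup.mem_zpowers_iff.1 hm
      exact hv1 (hzfp v hv (hk ▸ ((show Commute b v from hbv).zpow_left k).eq))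
    have hbr := H2 b hb hzb
    refine Finset.mem_filter.2 ⟨Finset.mem_univ _, hb, hbr, fun hc => ?_⟩
    obtain ⟨k, hk⟩ := Subgroup.mem_zpowers_iff.1 (H3 b hb hc hbr)
    refine hzb ?_
    have hbz : Subgroup.zpowers b = Subgroup.zpowers z :=
      Subgroup.eq_of_le_of_card_ge (Subgroup.zpowers_le.2 ⟨k, hk⟩) (by
        rw [Nat.card_zpowers, Nat.card_zpowers, hzr, orderOf_eq_prime hbr hb1])
    rw [hbz]; exact Subgroup.mem_zpowers z
  -- the main inequality
  have hmain : ∀ v ∈ C a₀, v ≠ 1 →
      D.index * Nat.card E * (Nat.card (E ⊓ Subgroup.centralizer {v} : Subgroup G) - 1) ≤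
        I.card * (q - 1) * Nat.card (E ⊓ Subgroup.centralizer {v} : Subgroup G) := by
    intro v hv hv1
    set B := E ⊓ Subgroup.centralizer {v} with hBdef
    set O := (Finset.univ.filter fun y : G => y ∈ Y).image fun y => y * v * y⁻¹ with hO
    have hpairs : O.card * (Nat.card B - 1) ≤ I.card * (q - 1) := by
      have hlow : ∀ u ∈ O, Nat.card B - 1 ≤
          (I.filter fun a => a * u = u * a).card := by
        intro u hu
        obtain ⟨y, hy, rfl⟩ := Finset.mem_image.1 hu
        have hy' : y ∈ Y := (Finset.mem_filter.1 hy).2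
        rw [Nat.card_eq_fintype_card, Fintype.card_subtype,
          ← Finset.card_erase_of_mem (s := Finset.univ.filter fun b : G => b ∈ B) (a := 1)
            (by simp [one_mem])]
        refine Finset.card_le_card_of_injOn (fun b => y * b * y⁻¹) ?_ ?_
        · intro b hb
          simp only [Finset.coe_erase, Set.mem_diff, Finset.coe_filter, Finset.mem_univ, true_and,
            Set.mem_setOf_eq, Set.mem_singleton_iff] at hb ⊢
          obtain ⟨hbB, hb1⟩ := hb
          have hbI := hBI v hv.1 hv1 b hbB.1 (Subgroup.mem_centralizer_singleton_iff.1 hbB.2) hb1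
          obtain ⟨-, hbE, hbr, hbnc⟩ := Finset.mem_filter.1 hbI
          refine ⟨Finset.mem_filter.2 ⟨Finset.mem_univ _, hEn y hy' b hbE,
            by rw [conj_pow, hbr, mul_one, mul_inv_cancel], fun hc => hbnc fun x hx => ?_⟩, ?_⟩
          · have h1 := hc _ (hEn y hy' x hx)
            calc b * x = y⁻¹ * (y * b * y⁻¹ * (y * x * y⁻¹)) * y := by group
              _ = y⁻¹ * (y * x * y⁻¹ * (y * b * y⁻¹)) * y := by rw [h1]
              _ = x * b := by group
          · have h1 := Subgroup.mem_centralizer_singleton_iff.1 hbB.2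
            calc y * b * y⁻¹ * (y * v * y⁻¹) = y * (b * v) * y⁻¹ := by group
              _ = y * (v * b) * y⁻¹ := by rw [h1]
              _ = _ := by group
        · intro b _ c _ hbc
          exact mul_left_cancel (mul_right_cancel hbc)
      have hup : ∀ a ∈ I, (O.filter fun u => a * u = u * a).card ≤ q - 1 := by
        intro a ha
        refine le_trans ?_ (Nat.sub_le_sub_right (hamax a ha) 1)
        rw [Nat.card_eq_fintype_card, Fintype.card_subtype,
          ← Finset.card_erase_of_mem (s := Finset.univ.filter fun b : G => b ∈ C a) (a := 1)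
            (by simp [one_mem])]
        refine Finset.card_le_card fun u hu => ?_
        obtain ⟨huO, huc⟩ := Finset.mem_filter.1 hu
        obtain ⟨y, hy, rfl⟩ := Finset.mem_image.1 huO
        simp only [Finset.mem_erase, Finset.mem_filter, Finset.mem_univ, true_and]
        exact ⟨fun e' => hv1 (conj_eq_one_iff.1 e'),
          hCmem a _ (conj_mem h (hYn (Finset.mem_filter.1 hy).2) hv.1) huc⟩
      exact Finset.card_mul_le_card_mul (r := fun (u : G) (a : G) => a * u = u * a) hlow hup
    have hc := count h hY hYn hv.1 hv1 {u | u ∈ O} (by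
        rintro u hu
        obtain ⟨y, hy, rfl⟩ := Finset.mem_image.1 hu
        exact conj_mem h (hYn (Finset.mem_filter.1 hy).2) hv.1)
      (by
        intro y hy u hu
        obtain ⟨y', hy', rfl⟩ := Finset.mem_image.1 hu
        exact Finset.mem_image.2 ⟨y * y', Finset.mem_filter.2 ⟨Finset.mem_univ _,
          mul_mem hy (Finset.mem_filter.1 hy').2⟩, by group⟩)
      (Finset.mem_image.2 ⟨1, Finset.mem_filter.2 ⟨Finset.mem_univ _, Y.one_mem⟩, by group⟩)
      (R := E) hEY
    have hncard : {u : G | u ∈ O}.ncard = O.card := Set.ncard_coe_finset O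
    calc D.index * Nat.card E * (Nat.card B - 1)
        ≤ O.card * Nat.card B * (Nat.card B - 1) := Nat.mul_le_mul_right _ (hncard ▸ hc.1)
      _ = O.card * (Nat.card B - 1) * Nat.card B := by ring
      _ ≤ _ := Nat.mul_le_mul_right _ hpairs
  have hIle : I.card ≤ Nat.card E := by
    rw [Nat.card_eq_fintype_card, Fintype.card_subtype]
    exact Finset.card_le_card fun a ha => by simpa using (Finset.mem_filter.1 ha).2.1
  obtain ⟨v, hv, hv1⟩ : ∃ v ∈ C a₀, v ≠ 1 := by
    by_contra hc
    push Not at hc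
    have : q = 1 := Subgroup.card_eq_one.2 ((Subgroup.eq_bot_iff_forall _).2 hc)
    omega
  rcases hr.out.eq_two_or_odd' with rfl | hodd
  swap
  · -- odd primes
    have hr3 : 3 ≤ r := by
      have := hr.out.two_le
      obtain ⟨k, hk⟩ := hodd
      omega
    have hB3 : 3 ≤ Nat.card (E ⊓ Subgroup.centralizer {v} : Subgroup G) := by
      refine hr3.trans (Nat.le_of_dvd Nat.card_pos ?_)
      rw [← orderOf_eq_prime ha₀r ha₀1, ← Nat.card_zpowers]
      exact Subgroup.card_dvd_of_le (Subgroup.zpowers_le.2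
        ⟨ha₀E, Subgroup.mem_centralizer_singleton_iff.2 (hCof _ _ hv)⟩)
    have hm := hmain v hv hv1
    set b := Nat.card (E ⊓ Subgroup.centralizer {v} : Subgroup G)
    have h2 : D.index * (b - 1) ≤ (q - 1) * b := by
      refine Nat.le_of_mul_le_mul_right ?_ (Nat.card_pos (α := E))
      calc D.index * (b - 1) * Nat.card E = D.index * Nat.card E * (b - 1) := by ring
        _ ≤ I.card * (q - 1) * b := hm
        _ ≤ Nat.card E * (q - 1) * b := Nat.mul_le_mul_right _ (Nat.mul_le_mul_right _ hIle)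
        _ = _ := by ring
    refine h.bad (((sq_le_cube hq2 ?_).trans (Nat.pow_le_pow_right (by omega) hr3)).trans hqn)
    refine Nat.le_of_mul_le_mul_right ?_ (by omega : 0 < b)
    have h3 : 2 * b ≤ 3 * (b - 1) := by omega
    calc 2 * D.index * b = D.index * (2 * b) := by ring
      _ ≤ D.index * (3 * (b - 1)) := Nat.mul_le_mul_left _ h3
      _ = 3 * (D.index * (b - 1)) := by ring
      _ ≤ 3 * ((q - 1) * b) := Nat.mul_le_mul_left _ h2
      _ = _ := by ring
  · -- the prime two
    have hfin : D.index ≤ q - 1 → False := fun hle =>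
      h.bad ((Nat.pow_le_pow_left (by omega : D.index + 1 ≤ q) 2).trans hqn)
    have hsq : ∀ x : G, x ^ 2 = 1 ↔ x * x = 1 := fun x => by rw [sq]
    by_cases hK : ∃ b ∈ I, b * a₀ = a₀ * b ∧ b ≠ a₀ ∧ b ≠ a₀ * z
    · -- a stabiliser of order at least four
      obtain ⟨b, hbI, hba, hb1, hb2⟩ := hK
      obtain ⟨-, hbE, hbr, hbnc⟩ := Finset.mem_filter.1 hbI
      have hbY := hYn (hEY hbE).1
      have hzY := hYn (hEY hz).1
      have hbzb : b * b = 1 := (hsq b).1 hbr
      have hzz : z * z = 1 := (hsq z).1 (by rw [← hzr]; exact pow_orderOf_eq_one z)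
      -- `z` inverts `P`
      have hzinv : ∀ w ∈ P, z * w * z⁻¹ = w⁻¹ := by
        intro w hw
        have hzw := conj_mem h hzY hw
        have h1 : z * w * z⁻¹ * w = 1 := by
          refine hzfp _ (mul_mem hzw hw) ?_
          have h2 : z * (z * w * z⁻¹ * w) * z⁻¹ = w * (z * w * z⁻¹) := by
            calc z * (z * w * z⁻¹ * w) * z⁻¹ = (z * z) * w * (z⁻¹ * (w * z⁻¹)) := by group
              _ = w * (z * z) * (z⁻¹ * (w * z⁻¹)) := by rw [hzz, one_mul, mul_one]
              _ = _ := by group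
          rw [← comm h hzw hw] at h2
          exact mul_inv_eq_iff_eq_mul.1 h2
        exact eq_inv_of_mul_eq_one_left h1
      obtain ⟨b', w, hb'E, hb'1, hb'2, hw, hw1, hb'w⟩ : ∃ b' w, b' ∈ E ∧ b' ≠ a₀ ∧ b' ≠ 1 ∧
          w ∈ C a₀ ∧ w ≠ 1 ∧ b' * w = w * b' := by
        by_cases hfix : b * v * b⁻¹ * v = 1
        · have hinvb : b * v * b⁻¹ = v⁻¹ := eq_inv_of_mul_eq_one_left hfix
          refine ⟨b * z, v, mul_mem hbE hz, fun e' => hb2 ?_, fun e' => hbnc fun x hx => ?_, hv, hv1,
            ?_⟩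
          · rw [← e', mul_assoc, hzz, mul_one]
          · have : b = z := by
              calc b = b * z * z := by rw [mul_assoc, hzz, mul_one]
                _ = z := by rw [e', one_mul]
            rw [this]; exact hzc x hx
          · refine mul_inv_eq_iff_eq_mul.1 ?_
            calc b * z * v * (b * z)⁻¹ = b * (z * v * z⁻¹) * b⁻¹ := by group
              _ = (b * v * b⁻¹)⁻¹ := by rw [hzinv v hv.1]; group
              _ = v := by rw [hinvb, inv_inv]
        · refine ⟨b, b * v * b⁻¹ * v, hbE, hb1, fun e' => hbnc fun x hx => by rw [e', one_mul, mul_one],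
            hCmem _ _ (mul_mem (conj_mem h hbY hv.1) hv.1) ?_, hfix, ?_⟩
          · have c1 : Commute a₀ b := (show Commute b a₀ from hba).symm
            have c2 : Commute a₀ v := hCof _ _ hv
            exact (((c1.mul_right c2).mul_right c1.inv_right).mul_right c2).eq
          · refine mul_inv_eq_iff_eq_mul.1 ?_
            calc b * (b * v * b⁻¹ * v) * b⁻¹ = (b * b) * v * (b * b)⁻¹ * (b * v * b⁻¹) := by group
              _ = v * (b * v * b⁻¹) := by rw [hbzb, one_mul, inv_one, mul_one]
              _ = _ := comm h hv.1 (conj_mem h hbY hv.1)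
      have hm := hmain w hw hw1
      set B := E ⊓ Subgroup.centralizer {w} with hB
      have h4 : 4 ≤ Nat.card B := by
        have hpos : 3 ≤ Nat.card B := by
          have hsub : ({1, a₀, b'} : Finset G) ⊆ Finset.univ.filter fun x => x ∈ B := by
            intro x hx
            simp only [Finset.mem_insert, Finset.mem_singleton] at hx
            refine Finset.mem_filter.2 ⟨Finset.mem_univ _, ?_⟩
            rcases hx with rfl | rfl | rfl
            · exact one_mem _
            · exact ⟨ha₀E, Subgroup.mem_centralizer_singleton_iff.2 (hCof _ _ hw)⟩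
            · exact ⟨hb'E, Subgroup.mem_centralizer_singleton_iff.2 hb'w⟩
          have hc3 : ({1, a₀, b'} : Finset G).card = 3 := by
            rw [Finset.card_insert_of_notMem (by simp [Ne.symm ha₀1, Ne.symm hb'2]),
              Finset.card_insert_of_notMem (by simp [Ne.symm hb'1]), Finset.card_singleton]
          rw [← hc3, Nat.card_eq_fintype_card, Fintype.card_subtype]
          exact Finset.card_le_card hsub
        obtain ⟨k, hk⟩ := IsPGroup.iff_card.1 (hEr.to_le (inf_le_left : B ≤ E))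
        rw [hk] at hpos ⊢
        rcases k with _ | _ | k
        · simp at hpos
        · simp at hpos
        · rw [pow_succ, pow_succ]
          have : 1 ≤ 2 ^ k := Nat.one_le_two_pow
          omega
      have hI34 : 4 * I.card ≤ 3 * Nat.card E := by
        refine le_trans (Nat.mul_le_mul_left 4 ?_) (four_mul_card_sq_le (E := E) fun hc =>
          ha₀nc fun x hx => congrArg Subtype.val (hc ⟨a₀, ha₀E⟩ ⟨x, hx⟩))
        rw [Nat.card_eq_fintype_card, Fintype.card_subtype]
        refine Finset.card_le_card_of_injOn (fun a => if ha : a ∈ E then (⟨a, ha⟩ : E) else 1) ?_ ?_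
        · intro a ha
          obtain ⟨-, haE, har, -⟩ := Finset.mem_filter.1 ha
          simp only [Finset.coe_filter, Finset.mem_univ, true_and, Set.mem_setOf_eq, dif_pos haE]
          exact Subtype.ext ((hsq a).1 har)
        · intro a ha c hc' hac
          simp only [dif_pos (Finset.mem_filter.1 ha).2.1, dif_pos (Finset.mem_filter.1 hc').2.1] at hac
          exact congrArg Subtype.val hac
      set b₄ := Nat.card B
      refine hfin ?_
      refine Nat.le_of_mul_le_mul_right ?_ (Nat.mul_pos (Nat.card_pos (α := E)) (by omega : 0 < 3 * b₄))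
      have h3 : 3 * b₄ ≤ 4 * (b₄ - 1) := by omega
      calc D.index * (Nat.card E * (3 * b₄)) ≤ D.index * (Nat.card E * (4 * (b₄ - 1))) :=
            Nat.mul_le_mul_left _ (Nat.mul_le_mul_left _ h3)
        _ = 4 * (D.index * Nat.card E * (b₄ - 1)) := by ring
        _ ≤ 4 * (I.card * (q - 1) * b₄) := Nat.mul_le_mul_left _ hm
        _ = 4 * I.card * ((q - 1) * b₄) := by ring
        _ ≤ 3 * Nat.card E * ((q - 1) * b₄) := Nat.mul_le_mul_right _ hI34
        _ = _ := by ring
    · -- at most half of `E` are involutions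
      push Not at hK
      have hzz : z * z = 1 := (hsq z).1 (by rw [← hzr]; exact pow_orderOf_eq_one z)
      have haa : a₀ * a₀ = 1 := (hsq a₀).1 ha₀r
      have hai : a₀⁻¹ = a₀ := inv_eq_of_mul_eq_one_left haa
      set X := Finset.univ.filter fun x : G => x ∈ E ∧ x * x = 1 with hX
      have hz2 : ∀ x ∈ Subgroup.zpowers z, x = 1 ∨ x = z := by
        intro x hx
        obtain ⟨k, hk, rfl⟩ := ((isOfFinOrder_of_finite z).mem_zpowers_iff_mem_range_orderOf).1 hx
          |> Finset.mem_image.1
        rw [Finset.mem_range, hzr] at hk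
        rcases k with _ | _ | k
        · exact Or.inl (pow_zero z)
        · exact Or.inr (pow_one z)
        · omega
      have hint : (X ∩ X.image (a₀ * ·)).card ≤ 4 := by
        refine (Finset.card_le_card (t := {1, z, a₀, a₀ * z}) fun y hy => ?_).trans
          Finset.card_le_four
        obtain ⟨hy1, hy2⟩ := Finset.mem_inter.1 hy
        obtain ⟨x, hx, rfl⟩ := Finset.mem_image.1 hy2
        simp only [hX, Finset.mem_filter, Finset.mem_univ, true_and] at hy1 hx
        have hxi : x⁻¹ = x := inv_eq_of_mul_eq_one_left hx.2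
        have h3 : (a₀ * x)⁻¹ = a₀ * x := inv_eq_of_mul_eq_one_left hy1.2
        rw [mul_inv_rev, hxi, hai] at h3
        simp only [Finset.mem_insert, Finset.mem_singleton]
        by_cases hxc : ∀ u ∈ E, x * u = u * x
        · rcases hz2 x (H3 x hx.1 hxc ((hsq x).2 hx.2)) with rfl | rfl <;> simp
        · by_cases e1 : x = a₀
          · left; rw [e1, haa]
          · have := hK x (Finset.mem_filter.2 ⟨Finset.mem_univ _, hx.1, (hsq x).2 hx.2, hxc⟩) h3 e1
            right; left
            rw [this, ← mul_assoc, haa, one_mul]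
      have hunion : (X ∪ X.image (a₀ * ·)).card ≤ Nat.card E := by
        rw [Nat.card_eq_fintype_card, Fintype.card_subtype]
        refine Finset.card_le_card fun y hy => ?_
        simp only [Finset.mem_filter, Finset.mem_univ, true_and]
        rcases Finset.mem_union.1 hy with hy' | hy'
        · exact (Finset.mem_filter.1 hy').2.1
        · obtain ⟨x, hx, rfl⟩ := Finset.mem_image.1 hy'
          exact mul_mem ha₀E (Finset.mem_filter.1 hx).2.1
      have hu := Finset.card_union_add_card_inter X (X.image (a₀ * ·))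
      rw [Finset.card_image_of_injective _ (mul_right_injective a₀)] at hu
      have hIX : I.card + 2 ≤ X.card := by
        have hd : Disjoint I {1, z} := by
          rw [Finset.disjoint_left]
          intro a ha ha'
          simp only [Finset.mem_insert, Finset.mem_singleton] at ha'
          obtain ⟨-, -, -, hanc⟩ := Finset.mem_filter.1 ha
          rcases ha' with rfl | rfl
          · exact hanc fun x _ => by rw [one_mul, mul_one]
          · exact hanc hzc
        rw [← Finset.card_pair (Ne.symm hz1), ← Finset.card_union_of_disjoint hd]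
        refine Finset.card_le_card fun y hy => ?_
        rw [hX, Finset.mem_filter]
        refine ⟨Finset.mem_univ _, ?_⟩
        rcases Finset.mem_union.1 hy with hy' | hy'
        · obtain ⟨-, hyE, hyr, -⟩ := Finset.mem_filter.1 hy'
          exact ⟨hyE, (hsq y).1 hyr⟩
        · simp only [Finset.mem_insert, Finset.mem_singleton] at hy'
          rcases hy' with rfl | rfl
          · exact ⟨one_mem _, one_mul 1⟩
          · exact ⟨hz, hzz⟩
      have hI2 : 2 * I.card ≤ Nat.card E := by omega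
      have hm := hmain v hv hv1
      have hb2 : 2 ≤ Nat.card (E ⊓ Subgroup.centralizer {v} : Subgroup G) :=
        two_le_of_ne_one h (show a₀ ∈ E ⊓ Subgroup.centralizer {v} from
          ⟨ha₀E, Subgroup.mem_centralizer_singleton_iff.2 (hCof _ _ hv)⟩) ha₀1
      set b₂ := Nat.card (E ⊓ Subgroup.centralizer {v} : Subgroup G)
      refine hfin ?_
      refine Nat.le_of_mul_le_mul_right ?_ (Nat.mul_pos (Nat.card_pos (α := E)) (by omega : 0 < b₂))
      have h3 : b₂ ≤ 2 * (b₂ - 1) := by omega
      calc D.index * (Nat.card E * b₂) ≤ D.index * (Nat.card E * (2 * (b₂ - 1))) :=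
            Nat.mul_le_mul_left _ (Nat.mul_le_mul_left _ h3)
        _ = 2 * (D.index * Nat.card E * (b₂ - 1)) := by ring
        _ ≤ 2 * (I.card * (q - 1) * b₂) := Nat.mul_le_mul_left _ hm
        _ = 2 * I.card * ((q - 1) * b₂) := by ring
        _ ≤ Nat.card E * ((q - 1) * b₂) := Nat.mul_le_mul_right _ hI2
        _ = _ := by ring

end CfsgLib.Perm.DerangeIndex
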