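import Cfsg.Agent.Lib.Perm.DerangeIndex.CC
import Cfsg.Agent.Lib.Perm.DerangeIndex.CharBound
import Cfsg.Agent.Lib.HallGen.Counting
import Cfsg.Agent.S0675
import Cfsg.Agent.Lib.Recog.SimpleSixty

/-!
# The index of the subgroup generated by the derangements

`sq_index_le`: in a primitive group with no nontrivial abelian normal subgroup, a normal subgroup
`D` containing all derangements satisfies `(|G : D| + 1) ^ 2 ≤ |Ω|`.
-/

set_option autoImplicit false
set_option linter.all false

namespace CfsgLib.Perm.DerangeIndex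

open MulAction CfsgLib.CNTI

variable {G Ω : Type*} [Group G] [MulAction G Ω]

/-- A solvable normal subgroup is trivial when there are no abelian ones. -/
theorem eq_bot_of_isSolvable [Finite G]
    (hna : ∀ N : Subgroup G, N.Normal → IsMulCommutative ↥N → N = ⊥) (D : Subgroup G) [D.Normal]
    (hD : Group.IsSolvable D) : D = ⊥ := by
  classical
  have hex : ∃ n, derivedSeries D n = ⊥ := hD.solvable
  rcases Nat.eq_zero_or_pos (Nat.find hex) with h0 | h0
  · have h' := Nat.find_spec hex
    rw [h0, derivedSeries_zero] at h'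
    refine (Subgroup.eq_bot_iff_forall _).2 fun x hx => ?_
    have h2 : (⟨x, hx⟩ : D) = 1 := Subgroup.mem_bot.1 (h' ▸ Subgroup.mem_top (⟨x, hx⟩ : D))
    exact congrArg Subtype.val h2
  · exfalso
    obtain ⟨m, hm⟩ : ∃ m, Nat.find hex = m + 1 := ⟨Nat.find hex - 1, by omega⟩
    refine Nat.find_min hex (m := m) (by omega) ?_
    refine (Subgroup.map_eq_bot_iff_of_injective _ D.subtype_injective).1
      (hna _ inferInstance ⟨⟨fun a b => Subtype.ext ?_⟩⟩)
    obtain ⟨a', ha, ea⟩ := Subgroup.mem_map.1 a.2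
    obtain ⟨b', hb, eb⟩ := Subgroup.mem_map.1 b.2
    have h' := Nat.find_spec hex
    rw [hm, derivedSeries_succ] at h'
    have h1 := Subgroup.commutator_mem_commutator ha hb
    rw [h', Subgroup.mem_bot, commutatorElement_eq_one_iff_mul_comm] at h1
    show (a : G) * b = b * a
    rw [← ea, ← eb, ← map_mul, h1, map_mul]

section Rank

variable [Finite G] [Finite Ω]

/-- The rank of `D` exceeds `|G : D|`. -/
theorem index_add_one_le_rank {D : Subgroup G} (h : DData D Ω) (hn : 2 ≤ Nat.card Ω) :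
    D.index + 1 ≤ Nat.card (orbitRel.Quotient D (Ω × Ω)) := by
  classical
  haveI := Fintype.ofFinite G
  haveI := Fintype.ofFinite Ω
  haveI : Nonempty Ω := (Nat.card_pos_iff.1 (by omega)).1
  set F : G → ℕ := fun g => Nat.card (fixedBy (Ω × Ω) g) with hF
  have hG := sum_card_fixedBy_eq_card_orbits_mul_card_group G (Ω × Ω)
  have hD := sum_card_fixedBy_eq_card_orbits_mul_card_group D (Ω × Ω)
  simp only [← Nat.card_eq_fintype_card] at hG hD
  have hout : ∀ g : G, g ∉ D → F g = 1 := by
    intro g hg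
    obtain ⟨ω, hω, hu⟩ := fix_unique h hg
    rw [hF, Nat.card_eq_one_iff_unique]
    refine ⟨⟨fun a b => Subtype.ext ?_⟩, ⟨⟨(ω, ω), Prod.ext hω hω⟩⟩⟩
    have ha : g • (a : Ω × Ω) = a := a.2
    have hb : g • (b : Ω × Ω) = b := b.2
    exact Prod.ext ((hu _ (congrArg Prod.fst ha)).trans (hu _ (congrArg Prod.fst hb)).symm)
      ((hu _ (congrArg Prod.snd ha)).trans (hu _ (congrArg Prod.snd hb)).symm)
  have hsplit : ∑ g, F g = (∑ x : D, F (x : G)) + (Nat.card G - Nat.card D) := by
    rw [← Finset.sum_filter_add_sum_filter_not Finset.univ (fun g : G => g ∈ D)]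
    congr 1
    · exact Finset.sum_subtype _ (fun x => by simp) F
    · rw [Finset.sum_congr rfl fun g hg => hout g (Finset.mem_filter.1 hg).2, Finset.sum_const,
        smul_eq_mul, mul_one, Nat.card_eq_fintype_card, Nat.card_eq_fintype_card,
        Fintype.card_subtype, ← Finset.card_compl]
      congr 1
      ext; simp
  have hD' : ∑ x : D, F (x : G) = Nat.card (orbitRel.Quotient D (Ω × Ω)) * Nat.card D := hD
  have hG' : ∑ g, F g = Nat.card (orbitRel.Quotient G (Ω × Ω)) * Nat.card G := hG
  rw [hsplit, hD'] at hG'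
  set rG := Nat.card (orbitRel.Quotient G (Ω × Ω))
  set rD := Nat.card (orbitRel.Quotient D (Ω × Ω))
  have h2 : 2 ≤ rG := by
    haveI : Nontrivial Ω := Finite.one_lt_card_iff_nontrivial.1 (by omega)
    obtain ⟨a, b, hab⟩ := exists_pair_ne Ω
    haveI : Nontrivial (orbitRel.Quotient G (Ω × Ω)) := ⟨⟨Quotient.mk'' (a, a), Quotient.mk'' (a, b),
      fun e => hab (by
        obtain ⟨g, hg⟩ := MulAction.mem_orbit_iff.1 (Quotient.exact' e)
        exact smul_left_cancel g ((congrArg Prod.fst hg).trans (congrArg Prod.snd hg).symm))⟩⟩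
    exact Finite.one_lt_card
  have hi := D.index_mul_card
  rw [← hi] at hG'
  set d := D.index
  set cD := Nat.card D
  have hcD : 0 < cD := Nat.card_pos
  have hd : 0 < d := Nat.pos_of_ne_zero Subgroup.index_ne_zero_of_finite
  have h3 : cD ≤ d * cD := Nat.le_mul_of_pos_left _ hd
  have h4 : 2 * (d * cD) ≤ rG * (d * cD) := Nat.mul_le_mul_right _ h2
  refine Nat.le_of_mul_le_mul_right ?_ hcD
  rw [add_mul, one_mul]
  omega

end Rank

variable [Finite G] [Finite Ω] [FaithfulSMul G Ω]

/-- The hard case: the Sylow subgroup is normal, or the degree is a small prime. -/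
theorem RData.normal_or_prime {D P : Subgroup G} {α : Ω} {p e : ℕ} (h : RData D P α p e) :
    P.Normal ∨ ((Nat.card Ω).Prime ∧ Nat.card Ω ≤ 13) := by
  classical
  haveI := Fact.mk h.prime
  haveI := h.data.normal
  haveI := Fintype.ofFinite Ω
  haveI : Nonempty Ω := ⟨α⟩
  have hn : 2 ≤ Nat.card Ω := by
    rw [h.card_eq]; exact Nat.one_lt_pow (e_pos h).ne' h.prime.one_lt
  have hd : 2 ≤ D.index := by
    have h1 := mt Subgroup.index_eq_one.1 h.ne_top
    have h2 : D.index ≠ 0 := Subgroup.index_ne_zero_of_finite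
    omega
  refine or_iff_not_imp_left.2 fun hnn => ?_
  set T := Subgroup.normalClosure (P : Set G) with hT
  have hTD : T ≤ D := Subgroup.normalClosure_le_normal h.le
  have hPT : P ≤ T := Subgroup.le_normalClosure
  haveI : Fintype T := Fintype.ofFinite _
  haveI : IsPretransitive T Ω := ⟨fun a b => by
    obtain ⟨u, rfl⟩ := h.regular.2 a
    obtain ⟨w, rfl⟩ := h.regular.2 b
    refine ⟨⟨(w : G) * (u : G)⁻¹, mul_mem (hPT w.2) (inv_mem (hPT u.2))⟩, ?_⟩
    show ((w : G) * (u : G)⁻¹) • (u : G) • α = (w : G) • α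
    rw [← mul_smul, inv_mul_cancel_right]⟩
  set A := P.subgroupOf T with hA
  have hTIK : TIK A := by
    refine ⟨fun x hx hx1 g hg => ?_, fun g hg x hx hgx => ?_⟩
    · exact cent_le h (hTD g.2) hx (fun e' => hx1 (Subtype.ext e'))
        (congrArg Subtype.val (Subgroup.mem_centralizer_singleton_iff.1 hg))
    · by_contra hx1
      have hy : (g : G) * x * (g : G)⁻¹ ∈ P := hgx
      have hy1 : (g : G) * x * (g : G)⁻¹ ≠ 1 := fun e' =>
        hx1 (Subtype.ext (conj_eq_one_iff.1 e'))
      have hmove : ∀ w ∈ P, (g : G) * w * (g : G)⁻¹ ∈ P := fun w hw =>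
        cent_le h (mul_mem (mul_mem (hTD g.2) (h.le hw)) (inv_mem (hTD g.2))) hy hy1 (by
          calc (g : G) * w * (g : G)⁻¹ * ((g : G) * x * (g : G)⁻¹)
              = g * (w * x) * (g : G)⁻¹ := by group
            _ = g * (x * w) * (g : G)⁻¹ := by rw [comm h hw (show (x : G) ∈ P from hx)]
            _ = _ := by group)
      have hgP : (g : G) ∈ Subgroup.normalizer (P : Set G) := by
        have he : P.map (MulAut.conj (g : G)).toMonoidHom = P :=
          Subgroup.eq_of_le_of_card_ge (by rintro _ ⟨w, hw, rfl⟩; exact hmove w hw)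
            (by rw [Subgroup.card_map_of_injective (MulAut.conj (g : G)).injective])
        refine Subgroup.mem_normalizer_iff.2 fun w => ⟨hmove w, fun hw => ?_⟩
        obtain ⟨w', hw', e'⟩ := Subgroup.mem_map.1 (le_of_eq he.symm hw)
        rwa [← (MulAut.conj (g : G)).injective e']
      exact hg (Subgroup.mem_normalizer_iff.2 fun w => Subgroup.mem_normalizer_iff.1 hgP (w : G))
  have hcA : ∀ a b : A, a * b = b * a := fun a b => Subtype.ext (Subtype.ext (comm h a.2 b.2))
  have hreg : Function.Bijective fun a : A => ((a : T) : G) • α :=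
    h.regular.comp (Subgroup.subgroupOfEquivOfLe hPT).bijective
  have hind : ¬ p ∣ A.index := by
    intro hd'
    have h2 : Nat.card P * A.index = Nat.card T := by
      rw [hA, ← Nat.card_congr (Subgroup.subgroupOfEquivOfLe hPT).toEquiv, Subgroup.card_mul_index]
    have h3 : Nat.card T ∣ Nat.card D := Subgroup.card_dvd_of_le hTD
    rw [card_eq_mul_stab h.data α, ← h2, h.card_eq, h.card_P] at h3
    exact h.cop (hd'.trans (Nat.dvd_of_mul_dvd_mul_left (pow_pos h.prime.pos e) h3))
  let S : Sylow p T := ((isPGroup h).comap_of_injective T.subtype T.subtype_injective).toSylow hind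
  have hgen : Subgroup.normalClosure (A : Set T) = ⊤ := by
    refine eq_top_iff.2 fun t _ => ?_
    suffices hle : T ≤ (Subgroup.normalClosure (A : Set T)).map T.subtype by
      obtain ⟨t', ht', e'⟩ := hle t.2
      rwa [← Subtype.ext e']
    refine (Subgroup.closure_le _).2 ?_
    intro y hy
    obtain ⟨w, hw, hwy⟩ := Group.mem_conjugatesOfSet_iff.1 hy
    obtain ⟨g, rfl⟩ := isConj_iff.1 hwy
    have hfr := Sylow.normalizer_sup_eq_top S
    rw [show (S : Subgroup T).map T.subtype = P from Subgroup.map_subgroupOf_eq_of_le hPT] at hfr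
    obtain ⟨u, hu, t₀, ht₀, rfl⟩ :=
      Subgroup.mem_sup_of_normal_right.1 (hfr ▸ Subgroup.mem_top g : g ∈ _ ⊔ T)
    set t₁ : T := ⟨u * t₀ * u⁻¹, (Subgroup.normalClosure_normal).conj_mem t₀ ht₀ u⟩
    set w₁ : T := ⟨u * w * u⁻¹, hPT ((Subgroup.mem_normalizer_iff.1 hu w).1 hw)⟩
    have hw₁ : w₁ ∈ (A : Set T) := (Subgroup.mem_normalizer_iff.1 hu w).1 hw
    refine ⟨t₁ * w₁ * t₁⁻¹,
      (Subgroup.normalClosure_normal (s := (A : Set T))).conj_mem w₁
        (Subgroup.subset_normalClosure hw₁) t₁, ?_⟩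
    show u * t₀ * u⁻¹ * (u * w * u⁻¹) * (u * t₀ * u⁻¹)⁻¹ = u * t₀ * w * (u * t₀)⁻¹
    group
  have hl : 2 ≤ A.relIndex (Subgroup.normalizer (A : Set T)) := by
    by_contra hlt
    have h0 : A.relIndex (Subgroup.normalizer (A : Set T)) ≠ 0 := Subgroup.index_ne_zero_of_finite
    have hle : Subgroup.normalizer (A : Set T) ≤ A := Subgroup.relIndex_eq_one.1 (by omega)
    have hP : Subgroup.normalizer ((S : Subgroup T) : Set T) ≤
        Subgroup.centralizer ((S : Subgroup T) : Set T) := fun u hu =>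
      Subgroup.mem_centralizer_iff.2 fun w hw => Subtype.ext (comm h hw (hle hu))
    obtain ⟨K, hK⟩ : ∃ K, K = (MonoidHom.transferSylow S hP).ker := ⟨_, rfl⟩
    have hcomp := MonoidHom.ker_transferSylow_isComplement' S hP
    have hnd := MonoidHom.not_dvd_card_ker_transferSylow S hP
    rw [← hK] at hcomp hnd
    have hKn : K.Normal := hK ▸ MonoidHom.normal_ker _
    have hnorm : P ≤ Subgroup.normalizer ((K.map T.subtype : Subgroup G) : Set G) := by
      refine le_normalizer_of ?_
      rintro y hy w hw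
      obtain ⟨k, hk, rfl⟩ := Subgroup.mem_map.1 hw
      exact Subgroup.mem_map.2 ⟨⟨y, hPT hy⟩ * k * (⟨y, hPT hy⟩)⁻¹, hKn.conj_mem k hk _, rfl⟩
    have hcard : ¬ p ∣ Nat.card (K.map T.subtype) := by
      rwa [Subgroup.card_map_of_injective T.subtype_injective]
    have hKb : K.map T.subtype = ⊥ :=
      eq_bot_of_normalized h ((Subgroup.map_subtype_le K).trans hTD) hcard hnorm
    rw [(Subgroup.map_eq_bot_iff_of_injective _ T.subtype_injective).1 hKb] at hcomp
    have htop : (S : Subgroup T) = ⊤ := Subgroup.isComplement'_bot_left.1 hcomp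
    have hTP : T = P := le_antisymm (fun x hx =>
      (show (⟨x, hx⟩ : T) ∈ (S : Subgroup T) from htop ▸ Subgroup.mem_top _)) hPT
    exact hnn (hTP ▸ Subgroup.normalClosure_normal)
  have hrank : D.index + 1 ≤ Nat.card (orbitRel.Quotient T (Ω × Ω)) := by
    refine (index_add_one_le_rank h.data hn).trans (Nat.card_le_card_of_surjective
      (Quotient.lift (fun x => (Quotient.mk'' x : orbitRel.Quotient D (Ω × Ω))) ?_) ?_)
    · intro a b hab
      obtain ⟨t, ht⟩ := MulAction.mem_orbit_iff.1 hab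
      exact Quotient.sound' (MulAction.mem_orbit_iff.2 ⟨⟨t, hTD t.2⟩, ht⟩)
    · intro q
      induction q using Quotient.inductionOn' with
      | h x => exact ⟨Quotient.mk'' x, rfl⟩
  exact (char_bound (T := T) (X := Ω) A α hTIK hcA hreg hgen hl hd hrank).resolve_left h.bad

/-- The hard case, without abelian normal subgroups. -/
theorem RData.false {D P : Subgroup G} {α : Ω} {p e : ℕ} (h : RData D P α p e)
    (hna : ∀ N : Subgroup G, N.Normal → IsMulCommutative ↥N → N = ⊥) : False := by
  classical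
  haveI := h.data.normal
  haveI := Fintype.ofFinite Ω
  have hn : 2 ≤ Nat.card Ω := by
    rw [h.card_eq]; exact Nat.one_lt_pow (e_pos h).ne' h.prime.one_lt
  have hd : 2 ≤ D.index := by
    have h1 := mt Subgroup.index_eq_one.1 h.ne_top
    have h2 : D.index ≠ 0 := Subgroup.index_ne_zero_of_finite
    omega
  obtain ⟨v, hv, hv1⟩ := exists_ne_one h
  rcases h.normal_or_prime with hP | ⟨hp, -⟩
  · exact hv1 (Subgroup.mem_bot.1
      (hna P hP ⟨⟨fun a b => Subtype.ext (comm h a.2 b.2)⟩⟩ ▸ hv))
  -- prime degree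
  haveI : IsPretransitive D Ω := ⟨fun a b => by
    obtain ⟨x, hx, e'⟩ := h.data.transitive a b
    exact ⟨⟨x, hx⟩, e'⟩⟩
  let φ : D →* Equiv.Perm Ω := (MulAction.toPermHom G Ω).comp D.subtype
  have hφ : Function.Injective φ := MulAction.toPerm_injective.comp D.subtype_injective
  haveI : IsPretransitive φ.range Ω := ⟨fun a b => by
    obtain ⟨x, e'⟩ := exists_smul_eq D a b
    exact ⟨⟨φ x, x, rfl⟩, e'⟩⟩
  rcases Cfsg.Agent.S0675.result (by rwa [← Nat.card_eq_fintype_card]) φ.range with hsol | h2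
  · haveI := hsol
    have hD : Group.IsSolvable D :=
      Group.isSolvable_of_isSolvable_injective (f := φ.rangeRestrict)
        (fun a b e' => hφ (congrArg Subtype.val e'))
    exact hv1 (Subgroup.mem_bot.1 (eq_bot_of_isSolvable hna D hD ▸ h.le hv))
  · haveI : MulAction.IsMultiplyPretransitive D Ω 2 := by
      rw [MulAction.is_two_pretransitive_iff] at h2 ⊢
      intro a b c d hab hcd
      obtain ⟨⟨_, x, rfl⟩, e1, e2⟩ := h2 hab hcd
      exact ⟨x, e1, e2⟩
    have h3 := (CfsgLib.Char.orbits_pairs_eq_two_iff D Ω hn).2 inferInstance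
    have h4 := index_add_one_le_rank h.data hn
    omega

omit [FaithfulSMul G Ω] in
/-- A normal subgroup containing all derangements of a transitive group is transitive. -/
theorem exists_mem_smul_eq [IsPretransitive G Ω] (D : Subgroup G)
    (hD : ∀ g : G, (∀ ω : Ω, g • ω ≠ ω) → g ∈ D) : ∀ a b : Ω, ∃ x ∈ D, x • a = b := by
  classical
  haveI := Fintype.ofFinite G
  haveI := Fintype.ofFinite Ω
  intro a b
  have hG := sum_card_fixedBy_eq_card_orbits_mul_card_group G Ω
  have hD' := sum_card_fixedBy_eq_card_orbits_mul_card_group D Ω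
  simp only [← Nat.card_eq_fintype_card] at hG hD'
  have hone : Nat.card (orbitRel.Quotient G Ω) = 1 := by
    rw [Nat.card_eq_one_iff_unique]
    exact ⟨(pretransitive_iff_subsingleton_quotient G Ω).mp inferInstance, ⟨Quotient.mk'' a⟩⟩
  rw [hone, one_mul] at hG
  set F : G → ℕ := fun g => Nat.card (fixedBy Ω g) with hF
  have h1 : ∑ x ∈ Finset.univ.filter (fun g : G => g ∈ D), F x =
      Nat.card (orbitRel.Quotient D Ω) * Nat.card D := by
    rw [← hD']
    exact Finset.sum_subtype _ (fun x => by simp) F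
  have h2 : ((Finset.univ.filter fun g : G => ¬ g ∈ D)).card ≤
      ∑ x ∈ Finset.univ.filter (fun g : G => ¬ g ∈ D), F x := by
    refine (le_of_eq (mul_one _).symm).trans (Finset.card_nsmul_le_sum _ _ 1 fun g hg => ?_)
    obtain ⟨ω, hω⟩ : ∃ ω : Ω, g • ω = ω := by
      by_contra hc
      push Not at hc
      exact (Finset.mem_filter.1 hg).2 (hD g hc)
    haveI : Nonempty (fixedBy Ω g) := ⟨⟨ω, hω⟩⟩
    exact Nat.card_pos
  have h3 : ∑ x ∈ Finset.univ.filter (fun g : G => g ∈ D), F x +
      ∑ x ∈ Finset.univ.filter (fun g : G => ¬ g ∈ D), F x = Nat.card G :=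
    (Finset.sum_filter_add_sum_filter_not _ _ _).trans hG
  have h4 : (Finset.univ.filter fun g : G => g ∈ D).card +
      (Finset.univ.filter fun g : G => ¬ g ∈ D).card = Nat.card G := by
    rw [Finset.card_filter_add_card_filter_not, Finset.card_univ, Nat.card_eq_fintype_card]
  have h5 : (Finset.univ.filter fun g : G => g ∈ D).card = Nat.card D := by
    rw [Nat.card_eq_fintype_card, Fintype.card_subtype]
  have h6 : Nat.card (orbitRel.Quotient D Ω) ≤ 1 := by
    refine Nat.le_of_mul_le_mul_right ?_ (Nat.card_pos (α := D))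
    rw [one_mul]; omega
  haveI : Subsingleton (orbitRel.Quotient D Ω) := Finite.card_le_one_iff_subsingleton.1 h6
  obtain ⟨x, hx⟩ := MulAction.mem_orbit_iff.1 (Quotient.exact'
    (Subsingleton.elim (Quotient.mk'' b : orbitRel.Quotient D Ω) (Quotient.mk'' a)))
  exact ⟨x, x.2, hx⟩

/-- The bound. -/
theorem sq_index_le (hprim : IsPreprimitive G Ω) (hn : 2 ≤ Nat.card Ω)
    (hna : ∀ N : Subgroup G, N.Normal → IsMulCommutative ↥N → N = ⊥) (D : Subgroup G) [D.Normal]
    (hD : ∀ g : G, (∀ ω : Ω, g • ω ≠ ω) → g ∈ D) : (D.index + 1) ^ 2 ≤ Nat.card Ω := by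
  classical
  haveI := hprim
  haveI := Fintype.ofFinite G
  haveI := Fintype.ofFinite Ω
  obtain ⟨g, hg⟩ := CfsgLib.HallGen.exists_derangement G Ω (by omega)
  have hg1 : g ≠ 1 := fun e' => by
    obtain ⟨ω⟩ := (Nat.card_pos_iff.1 (by omega : 0 < Nat.card Ω)).1
    exact hg ω (by rw [e', one_smul])
  have hdata : DData D Ω := ⟨inferInstance, hD, exists_mem_smul_eq D hD⟩
  by_cases hdt : D = ⊤
  · -- then only the degree matters
    rw [hdt, Subgroup.index_top]
    by_contra hlt
    have hsol : Group.IsSolvable (⊤ : Subgroup G) := by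
      have h1 : Nat.card (⊤ : Subgroup G) ∣ Nat.card (Equiv.Perm Ω) := by
        rw [Subgroup.card_top]
        exact Subgroup.card_dvd_of_injective (MulAction.toPermHom G Ω) MulAction.toPerm_injective
      rw [Nat.card_perm] at h1
      have h3 : (Nat.card Ω).factorial ∣ 6 :=
        Nat.factorial_dvd_factorial (show Nat.card Ω ≤ 3 by omega)
      refine CfsgLib.Recog.Sixty.isSolvable_of_dvd_sixty ((h1.trans h3).trans (by norm_num))
        fun e' => ?_
      have := Nat.le_of_dvd (by norm_num) (h1.trans h3)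
      omega
    exact hg1 (Subgroup.mem_bot.1 (eq_bot_of_isSolvable hna ⊤ hsol ▸ Subgroup.mem_top g))
  · obtain ⟨α⟩ := (Nat.card_pos_iff.1 (by omega : 0 < Nat.card Ω)).1
    rcases reduce hdata hdt α hn with h | ⟨p, e, hp, he, hpD⟩
    · exact h
    · by_contra hbad
      obtain ⟨P, hP⟩ := exists_rdata hdata hdt α hp he hpD hbad
      exact hP.false hna

end CfsgLib.Perm.DerangeIndex
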