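import Cfsg.Agent.Lib.Char.CNTI
import Cfsg.Agent.Lib.Char.Perm

/-!
# Restriction of irreducible characters to an abelian TI subgroup

* `mult`: the multiplicities; `apply_one_eq`, `sum_normSq_eq` (Parseval on the subgroup).
* `mass_lt`: `n * Σ m² < χ(1)² + n * l`.
* `sum_mult_sq_diff`: the coefficients of `ind (λ - μ)`.
-/

set_option autoImplicit false
set_option linter.all false

namespace CfsgLib.Perm.DerangeIndex

open CfsgLib.Char CfsgLib.CA CfsgLib.CNTI
open scoped ComplexConjugate Classical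

variable {T : Type*} [Group T] [Fintype T] {A : Subgroup T}

/-- The multiplicity of `lam` in the restriction of `χ`. -/
noncomputable def mult [Fintype A] (χ : Cfsg.IrrCharacter T) (lam : Cfsg.IrrCharacter A) : ℕ :=
  (IsChar.classInner_eq_natCast (IsChar.restrict A (IsIrr.isCharacter χ.2))
    (IsIrr.isCharacter lam.2)).choose

theorem mult_spec [Fintype A] (χ : Cfsg.IrrCharacter T) (lam : Cfsg.IrrCharacter A) :
    Cfsg.classInner (fun x : A => (χ : T → ℂ) x) (lam : A → ℂ) = (mult χ lam : ℂ) :=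
  (IsChar.classInner_eq_natCast (IsChar.restrict A (IsIrr.isCharacter χ.2))
    (IsIrr.isCharacter lam.2)).choose_spec

variable [Fintype A] [Fintype (Cfsg.IrrCharacter A)]

theorem restrict_eq_sum (χ : Cfsg.IrrCharacter T) :
    (fun x : A => (χ : T → ℂ) x) = ∑ lam : Cfsg.IrrCharacter A, (mult χ lam : ℂ) • (lam : A → ℂ) := by
  conv_lhs => rw [classFunction_eq_sum
    (IsChar.isClassFunction (IsChar.restrict A (IsIrr.isCharacter χ.2)))]
  simp only [mult_spec]

theorem lin_one (hc : ∀ a b : A, a * b = b * a) (lam : Cfsg.IrrCharacter A) :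
    (lam : A → ℂ) 1 = 1 := by
  rw [← CharDegree.cast_irrDegree lam, CharDegree.charDegree_of_comm hc lam, Nat.cast_one]

theorem apply_one_eq (hc : ∀ a b : A, a * b = b * a) (χ : Cfsg.IrrCharacter T) :
    (χ : T → ℂ) 1 = ((∑ lam : Cfsg.IrrCharacter A, mult χ lam : ℕ) : ℂ) := by
  have h1 := congrFun (restrict_eq_sum (A := A) χ) 1
  simpa [Finset.sum_apply, lin_one hc] using h1

theorem sum_normSq_eq (χ : Cfsg.IrrCharacter T) :
    ∑ x : A, Complex.normSq ((χ : T → ℂ) x) =
      (Nat.card A : ℝ) * ((∑ lam : Cfsg.IrrCharacter A, mult χ lam ^ 2 : ℕ) : ℝ) := by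
  have h1 := classInner_eq_sum
    (IsChar.isClassFunction (IsChar.restrict A (IsIrr.isCharacter χ.2)))
    (fun x : A => (χ : T → ℂ) x)
  simp only [mult_spec, map_natCast] at h1
  simp only [Cfsg.classInner, Complex.mul_conj] at h1
  rw [inv_mul_eq_iff_eq_mul₀ (Nat.cast_ne_zero.mpr Nat.card_pos.ne'), ← Complex.ofReal_sum] at h1
  have h2 : ((∑ x : A, Complex.normSq ((χ : T → ℂ) x) : ℝ) : ℂ) =
      (((Nat.card A : ℝ) * ((∑ lam : Cfsg.IrrCharacter A, mult χ lam ^ 2 : ℕ) : ℝ) : ℝ) : ℂ) := by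
    rw [h1]
    push_cast
    congr 1
    exact Finset.sum_congr rfl fun lam _ => (sq _).symm
  exact Complex.ofReal_inj.1 h2

/-- The mass on `A` away from one is less than `|N(A)|`. -/
theorem mass_lt [Fintype (Subgroup.normalizer (A : Set T))] (hA : TIK A)
    (hc : ∀ a b : A, a * b = b * a) (χ : Cfsg.IrrCharacter T) :
    Nat.card A * ∑ lam : Cfsg.IrrCharacter A, mult χ lam ^ 2 <
      (∑ lam : Cfsg.IrrCharacter A, mult χ lam) ^ 2 +
        Nat.card A * A.relIndex (Subgroup.normalizer (A : Set T)) := by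
  set S := (Finset.univ : Finset A).erase 1 with hS
  let f : T → ℝ := fun y => Complex.normSq ((χ : T → ℂ) y)
  have hf : ∀ g y : T, f (g * y * g⁻¹) = f y := fun g y => by
    show Complex.normSq _ = _
    rw [IsIrr.isClassFunction χ.2 y g]
  have htot : ∑ y : T, f y = (Nat.card T : ℝ) := by
    have h1 := classInner_irr_self χ
    simp only [Cfsg.classInner, Complex.mul_conj] at h1
    rw [inv_mul_eq_iff_eq_mul₀ (Nat.cast_ne_zero.mpr Nat.card_pos.ne'), mul_one,
      ← Complex.ofReal_sum] at h1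
    exact_mod_cast h1
  set M := ∑ x ∈ S, f (x : T) with hM
  set N := Fintype.card (Subgroup.normalizer (A : Set T))
  let μ : T × A → T := fun q => q.1 * (q.2 : T) * q.1⁻¹
  set P := (Finset.univ : Finset T) ×ˢ S with hP
  have hlhs : ∑ q ∈ P, f (μ q) = (Fintype.card T : ℝ) * M := by
    rw [hP, Finset.sum_product]
    simp only [μ, hf]
    rw [Finset.sum_const, Finset.card_univ, nsmul_eq_mul]
  have hfib : ∀ y : T, (P.filter fun q => μ q = y).card ≤ N := by
    intro y
    rcases (P.filter fun q => μ q = y).eq_empty_or_nonempty with e | ⟨q₀, hq₀⟩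
    · rw [e]; simp
    obtain ⟨g₀, x₀⟩ := q₀
    obtain ⟨hm₀, he₀⟩ := Finset.mem_filter.1 hq₀
    have hx₀ : (x₀ : T) ≠ 1 := fun e' =>
      (Finset.mem_erase.1 (Finset.mem_product.1 hm₀).2).1 (Subtype.ext e')
    have hconj : ∀ g : T, ∀ x : A, μ (g, x) = y →
        (g₀⁻¹ * g) * (x : T) * (g₀⁻¹ * g)⁻¹ = x₀ := by
      intro g x e'
      have e2 : g * (x : T) * g⁻¹ = g₀ * (x₀ : T) * g₀⁻¹ := e'.trans he₀.symm
      calc (g₀⁻¹ * g) * (x : T) * (g₀⁻¹ * g)⁻¹ = g₀⁻¹ * (g * (x : T) * g⁻¹) * g₀ := by group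
        _ = _ := by rw [e2]; group
    refine (Finset.card_le_card_of_injOn (t := (Finset.univ.filter fun g : T =>
      g ∈ Subgroup.normalizer (A : Set T))) (fun q => g₀⁻¹ * q.1) ?_ ?_).trans
        (by rw [← Fintype.card_subtype])
    · intro q hq
      obtain ⟨hm, he⟩ := Finset.mem_filter.1 hq
      simp only [Finset.coe_filter, Finset.mem_univ, true_and, Set.mem_setOf_eq]
      have h1 := hconj q.1 q.2 he
      refine mem_normalizer_of_conj_mem hA q.2.2 (fun e' => ?_) (h1 ▸ x₀.2)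
      exact hx₀ (by rw [← h1, e', mul_one, mul_inv_cancel])
    · intro q hq q' hq' e'
      have hg : q.1 = q'.1 := mul_left_cancel e'
      refine Prod.ext hg (Subtype.ext ?_)
      have h2 : μ q = μ q' := (Finset.mem_filter.1 hq).2.trans (Finset.mem_filter.1 hq').2.symm
      simp only [μ, hg] at h2
      exact mul_left_cancel (mul_right_cancel h2)
  have hrhs : ∑ q ∈ P, f (μ q) ≤ (N : ℝ) * ∑ y ∈ (Finset.univ : Finset T).erase 1, f y := by
    rw [← Finset.sum_fiberwise_of_maps_to (g := μ) (t := (Finset.univ : Finset T).erase 1)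
      (fun q hq => Finset.mem_erase.2 ⟨fun e' =>
        (Finset.mem_erase.1 (Finset.mem_product.1 hq).2).1 (Subtype.ext (conj_eq_one_iff.1 e')),
        Finset.mem_univ _⟩), Finset.mul_sum]
    refine Finset.sum_le_sum fun y _ => ?_
    rw [Finset.sum_congr rfl fun q hq => congrArg f (Finset.mem_filter.1 hq).2, Finset.sum_const,
      nsmul_eq_mul]
    exact mul_le_mul_of_nonneg_right (Nat.cast_le.2 (hfib y)) (Complex.normSq_nonneg _)
  have h1pos : 0 < f 1 := Complex.normSq_pos.2 (IsIrr.apply_one_ne_zero χ.2)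
  have hT : (0 : ℝ) < Fintype.card T := by exact_mod_cast Fintype.card_pos
  have hNpos : (0 : ℝ) < N := by exact_mod_cast (Fintype.card_pos : 0 < N)
  rw [Finset.sum_erase_eq_sub (Finset.mem_univ 1), htot, Nat.card_eq_fintype_card] at hrhs
  have hMN : M < N := by
    have h3 : (Fintype.card T : ℝ) * M < (Fintype.card T : ℝ) * N := by
      rw [← hlhs]
      nlinarith
    exact lt_of_mul_lt_mul_left h3 hT.le
  rw [hM, hS, Finset.sum_erase_eq_sub (Finset.mem_univ 1)] at hMN
  simp only [f, sum_normSq_eq, Subgroup.coe_one] at hMN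
  rw [apply_one_eq (A := A) hc χ, Complex.normSq_natCast] at hMN
  have hN : (N : ℝ) =
      ((A.relIndex (Subgroup.normalizer (A : Set T)) * Nat.card A : ℕ) : ℝ) := by
    rw [show N = _ from card_normalizer]
  rw [hN, sub_lt_iff_lt_add] at hMN
  have h4 : (((Nat.card A * ∑ lam : Cfsg.IrrCharacter A, mult χ lam ^ 2 : ℕ)) : ℝ) <
      (((∑ lam : Cfsg.IrrCharacter A, mult χ lam) ^ 2 +
        Nat.card A * A.relIndex (Subgroup.normalizer (A : Set T)) : ℕ) : ℝ) := by
    push_cast at hMN ⊢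
    nlinarith [hMN]
  exact_mod_cast h4

/-- Multiplicities are constant on the orbits of the normaliser. -/
theorem mult_comp (χ : Cfsg.IrrCharacter T) {lam mu : Cfsg.IrrCharacter A}
    (g : Subgroup.normalizer (A : Set T)) (he : (lam : A → ℂ) ∘ cj A g = (mu : A → ℂ)) :
    mult χ mu = mult χ lam := by
  have h1 : (mult χ mu : ℂ) = mult χ lam := by
    rw [← mult_spec, ← mult_spec, ← he]
    simp only [Cfsg.classInner, Function.comp_apply]
    congr 1
    refine Fintype.sum_equiv (cj A g).toEquiv _ _ fun a => ?_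
    show _ = (χ : T → ℂ) ((cj A g a : A) : T) * conj ((lam : A → ℂ) (cj A g a))
    rw [coe_cj, IsIrr.isClassFunction χ.2]
  exact_mod_cast h1

/-- The coefficients of `ind (r j - r k)`. -/
theorem sum_mult_sq_diff [Fintype (Subgroup.normalizer (A : Set T))]
    [Fintype (Cfsg.IrrCharacter T)] (hA : TIK A) {n : ℕ} {r : Fin n → Cfsg.IrrCharacter A}
    (hl : ∀ j, (r j : A → ℂ) 1 = 1) (hne : ∀ j, r j ≠ trivChar A)
    (horb : ∀ j k, j ≠ k → ∀ g : Subgroup.normalizer (A : Set T),
      (r j : A → ℂ) ∘ cj A g ≠ (r k : A → ℂ)) {j k : Fin n} (hjk : j ≠ k) :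
    (∑ χ : Cfsg.IrrCharacter T, ((mult χ (r j) : ℤ) - mult χ (r k)) ^ 2 = 2) ∧
      ∑ χ : Cfsg.IrrCharacter T,
        ((mult χ (r j) : ℂ) - mult χ (r k)) * (χ : T → ℂ) 1 = 0 := by
  set τ := Cfsg.indFun A ((r j : A → ℂ) - (r k : A → ℂ)) with hτ
  have h0 : ((r j : A → ℂ) - (r k : A → ℂ)) 1 = 0 := by rw [Pi.sub_apply, hl, hl, sub_self]
  have hcoef : ∀ χ : Cfsg.IrrCharacter T, Cfsg.classInner τ (χ : T → ℂ) =
      (mult χ (r j) : ℂ) - mult χ (r k) := fun χ => by
    rw [hτ, frobenius_reciprocity A _ (IsIrr.isClassFunction χ.2), classInner_sub_left,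
      ← classInner_conj_symm (fun x : A => (χ : T → ℂ) x) (r j : A → ℂ),
      ← classInner_conj_symm (fun x : A => (χ : T → ℂ) x) (r k : A → ℂ), mult_spec, mult_spec,
      map_natCast, map_natCast]
  have hself : Cfsg.classInner τ τ = 2 := by
    have h := classInner_indFun hA ((r j : A → ℂ) - (r k : A → ℂ)) h0
    have hcomp : ∀ g : Subgroup.normalizer (A : Set T),
        ((r j : A → ℂ) - (r k : A → ℂ)) ∘ cj A g =
          (r j : A → ℂ) ∘ cj A g - (r k : A → ℂ) ∘ cj A g := fun g => rfl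
    simp only [hcomp, classInner_sub_left, classInner_sub_right, Finset.sum_sub_distrib,
      sum_classInner_comp hA hl hne horb, if_pos, if_neg hjk, if_neg (Ne.symm hjk)] at h
    refine mul_left_cancel₀ (Nat.cast_ne_zero.mpr (Nat.card_pos (α := A)).ne' : (Nat.card A : ℂ) ≠ 0)
      (h.trans ?_)
    ring
  constructor
  · have h1 := classInner_eq_sum (isClassFunction_indFun A ((r j : A → ℂ) - (r k : A → ℂ))) τ
    rw [← hτ, hself] at h1
    simp only [hcoef, map_sub, map_natCast] at h1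
    have h2 : ((∑ χ : Cfsg.IrrCharacter T, ((mult χ (r j) : ℤ) - mult χ (r k)) ^ 2 : ℤ) : ℂ) =
        ((2 : ℤ) : ℂ) := by
      push_cast
      rw [h1]
      exact Finset.sum_congr rfl fun χ _ => sq _
    exact_mod_cast h2
  · have h1 := classFunction_apply_eq_sum
      (isClassFunction_indFun A ((r j : A → ℂ) - (r k : A → ℂ))) 1
    rw [indFun_apply_one, h0, mul_zero, ← hτ] at h1
    simp only [hcoef] at h1
    exact h1.symm

/-- Sums over the nontrivial linear characters, orbit by orbit. -/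
theorem sum_orbits (hc : ∀ a b : A, a * b = b * a) {n l : ℕ} {r : Fin n → Cfsg.IrrCharacter A}
    (hne : ∀ j, r j ≠ trivChar A)
    (horb : ∀ j k, j ≠ k → ∀ g : Subgroup.normalizer (A : Set T),
      (r j : A → ℂ) ∘ cj A g ≠ (r k : A → ℂ))
    (hall : ∀ lam : Cfsg.IrrCharacter A, (lam : A → ℂ) 1 = 1 → lam ≠ trivChar A →
      ∃ j, ∃ g : Subgroup.normalizer (A : Set T), (r j : A → ℂ) ∘ cj A g = (lam : A → ℂ))
    (hcard : ∀ j, Nat.card {lam : Cfsg.IrrCharacter A // ∃ g : Subgroup.normalizer (A : Set T),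
      (r j : A → ℂ) ∘ cj A g = (lam : A → ℂ)} = l)
    (f : Cfsg.IrrCharacter A → ℕ)
    (hf : ∀ j (lam : Cfsg.IrrCharacter A) (g : Subgroup.normalizer (A : Set T)),
      (r j : A → ℂ) ∘ cj A g = (lam : A → ℂ) → f lam = f (r j)) :
    ∑ lam : Cfsg.IrrCharacter A, f lam = f (trivChar A) + l * ∑ j, f (r j) := by
  let O : Fin n → Finset (Cfsg.IrrCharacter A) := fun j =>
    Finset.univ.filter fun lam => ∃ g : Subgroup.normalizer (A : Set T),
      (r j : A → ℂ) ∘ cj A g = (lam : A → ℂ)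
  have hdisj : Set.PairwiseDisjoint (↑(Finset.univ : Finset (Fin n))) O := by
    intro j _ k _ hjk
    refine Finset.disjoint_left.2 fun lam h1 h2 => ?_
    obtain ⟨g, hg⟩ := (Finset.mem_filter.1 h1).2
    obtain ⟨g', hg'⟩ := (Finset.mem_filter.1 h2).2
    refine horb j k hjk (g * g'⁻¹) ?_
    rw [comp_cj_mul, hg, ← hg', ← comp_cj_mul, mul_inv_cancel]
    exact funext fun a => congrArg _ (cj_one a)
  have heq : (Finset.univ : Finset (Cfsg.IrrCharacter A)).erase (trivChar A) =
      Finset.univ.biUnion O := by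
    ext lam
    simp only [Finset.mem_erase, Finset.mem_univ, and_true, Finset.mem_biUnion, true_and, O,
      Finset.mem_filter]
    refine ⟨fun hlam => hall lam (lin_one hc lam) hlam, ?_⟩
    rintro ⟨j, g, hg⟩ rfl
    refine hne j (Subtype.ext (funext fun a => ?_))
    have := congrFun hg ((cj A g).symm a)
    simpa using this
  rw [← Finset.add_sum_erase _ _ (Finset.mem_univ (trivChar A)), heq,
    Finset.sum_biUnion hdisj, Finset.mul_sum]
  congr 1
  refine Finset.sum_congr rfl fun j _ => ?_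
  rw [Finset.sum_congr rfl fun (lam : Cfsg.IrrCharacter A) (hlam : lam ∈ O j) =>
      hf j lam _ (Finset.mem_filter.1 hlam).2.choose_spec,
    Finset.sum_const, smul_eq_mul, ← hcard j, Nat.card_eq_fintype_card, Fintype.card_subtype]

end CfsgLib.Perm.DerangeIndex
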