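import Cfsg.Agent.Lib.Perm.DerangeIndex.Sylow

/-!
# The remaining case: a regular elementary abelian Sylow subgroup

`RData D P α p e`: `P ≤ D` is a regular `p`-subgroup, `p ∤ |D_α|`, the normaliser of `P` in `G_α`
supplements `D`, and the bound fails.

* `inv_eq`: `P` has no proper nontrivial subgroup normalised by a supplement; so `comm`, `pow_eq_one`.
* `eq_bot_of_normalized`: `P` normalises no nontrivial subgroup of `D` of order prime to `p`.
* `count`: `d * |R : C_R(v)| ≤ |S|` for invariant subsets `S` of `P`.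
-/

set_option autoImplicit false
set_option linter.all false

namespace CfsgLib.Perm.DerangeIndex

open MulAction

variable {G Ω : Type*} [Group G] [MulAction G Ω]

/-- The normaliser of `P` in the stabiliser of `α`. -/
abbrev nStab (P : Subgroup G) (α : Ω) : Subgroup G :=
  Subgroup.normalizer (P : Set G) ⊓ stabilizer G α

/-- The remaining case. -/
structure RData (D P : Subgroup G) (α : Ω) (p e : ℕ) : Prop where
  data : DData D Ω
  ne_top : D ≠ ⊤
  prime : p.Prime
  le : P ≤ D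
  card_eq : Nat.card Ω = p ^ e
  card_P : Nat.card P = p ^ e
  regular : Function.Bijective fun z : P => (z : G) • α
  cop : ¬ p ∣ Nat.card (D ⊓ stabilizer G α : Subgroup G)
  cov : nStab P α ⊔ D = ⊤
  bad : ¬ (D.index + 1) ^ 2 ≤ Nat.card Ω

variable [Finite G] [Finite Ω] [FaithfulSMul G Ω]

theorem exists_rdata {D : Subgroup G} (h : DData D Ω) (hd : D ≠ ⊤) (α : Ω) {p e : ℕ} (hp : p.Prime)
    (hn : Nat.card Ω = p ^ e) (hcop : ¬ p ∣ Nat.card (D ⊓ stabilizer G α : Subgroup G))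
    (hbad : ¬ (D.index + 1) ^ 2 ≤ Nat.card Ω) :
    ∃ P : Subgroup G, RData D P α p e := by
  haveI := Fact.mk hp
  haveI := h.normal
  obtain ⟨P, hPle, hPp, -, hPmax, hY⟩ := frattini (top_sup_eq (a := D)) p
  rw [top_inf_eq] at hPle hY
  have hPD : P ≤ D := hPle
  have hcD : Nat.card D = p ^ e * Nat.card (D ⊓ stabilizer G α : Subgroup G) := by
    rw [card_eq_mul_stab h α, hn]
  have hcard : Nat.card P = p ^ e := by
    obtain ⟨c, hc⟩ := IsPGroup.iff_card.1 hPp
    obtain ⟨Q⟩ : Nonempty (Sylow p D) := inferInstance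
    have hv : (Nat.card D).factorization p = e := by
      rw [hcD, Nat.factorization_mul (pow_ne_zero _ hp.ne_zero) Nat.card_pos.ne', Finsupp.add_apply,
        hp.factorization_pow, Finsupp.single_eq_same, Nat.factorization_eq_zero_of_not_dvd hcop,
        add_zero]
    have h1 := hPmax ((Q : Subgroup D).map D.subtype)
      (le_inf le_top (Subgroup.map_subtype_le _)) (Q.isPGroup'.map _)
    rw [Subgroup.card_map_of_injective D.subtype_injective, Sylow.card_eq_multiplicity, hv, hc] at h1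
    have h2 : p ^ c ∣ Nat.card D := hc ▸ Subgroup.card_dvd_of_le hPD
    rw [hp.pow_dvd_iff_le_factorization Nat.card_pos.ne', hv] at h2
    rw [hc, le_antisymm h2 ((Nat.pow_le_pow_iff_right hp.one_lt).1 h1)]
  have hint : P ⊓ stabilizer G α = ⊥ := by
    rw [← Subgroup.card_eq_one]
    obtain ⟨c, hc⟩ := IsPGroup.iff_card.1 (hPp.to_le (inf_le_left (b := stabilizer G α)))
    rw [hc]
    rcases Nat.eq_zero_or_pos c with rfl | hc0
    · exact pow_zero p
    · exfalso
      refine hcop ((dvd_pow_self p hc0.ne').trans ?_)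
      rw [← hc]
      exact Subgroup.card_dvd_of_le (inf_le_inf_right _ hPD)
  have hinj : Function.Injective fun z : P => (z : G) • α := by
    intro a b e
    have hm : (b : G)⁻¹ * a ∈ P ⊓ stabilizer G α :=
      ⟨P.mul_mem (P.inv_mem b.2) a.2, by
        show ((b : G)⁻¹ * a) • α = α
        rw [mul_smul, show (a : G) • α = (b : G) • α from e, inv_smul_smul]⟩
    rw [hint, Subgroup.mem_bot, inv_mul_eq_one] at hm
    exact Subtype.ext hm.symm
  have hbij : Function.Bijective fun z : P => (z : G) • α :=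
    (Nat.bijective_iff_injective_and_card _).2 ⟨hinj, hcard.trans hn.symm⟩
  refine ⟨P, h, hd, hp, hPD, hn, hcard, hbij, hcop, eq_top_iff.2 fun g _ => ?_, hbad⟩
  obtain ⟨y, hy, x, hx, rfl⟩ :=
    Subgroup.mem_sup_of_normal_right.1 (hY.symm ▸ Subgroup.mem_top g : g ∈ _ ⊔ D)
  obtain ⟨z, hz⟩ := hbij.2 (y • α)
  refine Subgroup.mem_sup_of_normal_right.2 ⟨(z : G)⁻¹ * y,
    ⟨Subgroup.mul_mem _ (Subgroup.inv_mem _ (Subgroup.le_normalizer z.2)) hy, ?_⟩,
    y⁻¹ * z * y * x, mul_mem ?_ hx, by group⟩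
  · show ((z : G)⁻¹ * y) • α = α
    rw [mul_smul, ← hz, inv_smul_smul]
  · exact h.normal.conj_mem' _ (hPD z.2) y

section

variable {D P : Subgroup G} {α : Ω} {p e : ℕ} (h : RData D P α p e)
include h

omit [FaithfulSMul G Ω] in
theorem smul_eq_conj {y : G} (hy : y ∈ nStab P α) (v : G) : y • v • α = (y * v * y⁻¹) • α := by
  rw [mul_smul, mul_smul, inv_smul_eq_iff.2 (mem_stabilizer_iff.1 hy.2).symm]

omit [FaithfulSMul G Ω] in
theorem conj_mem {y : G} (hy : y ∈ nStab P α) {v : G} (hv : v ∈ P) : y * v * y⁻¹ ∈ P :=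
  (Subgroup.mem_normalizer_iff.1 hy.1 v).1 hv

omit [FaithfulSMul G Ω] in
theorem eq_of_smul_eq {u v : G} (hu : u ∈ P) (hv : v ∈ P) (he : u • α = v • α) : u = v :=
  congrArg Subtype.val (h.regular.1 (a₁ := ⟨u, hu⟩) (a₂ := ⟨v, hv⟩) he)

omit [FaithfulSMul G Ω] in
theorem isPGroup : IsPGroup p P := haveI := Fact.mk h.prime; IsPGroup.iff_card.2 ⟨e, h.card_P⟩

/-- No proper nontrivial subgroup of `P` is normalised by a supplement. -/
theorem inv_eq {Y : Subgroup G} (hY : Y ⊔ D = ⊤) (hYn : Y ≤ nStab P α) {W : Subgroup G}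
    (hW : W ≤ P) (hWY : ∀ y ∈ Y, ∀ w ∈ W, y * w * y⁻¹ ∈ W) : W = ⊥ ∨ W = P := by
  haveI := Fact.mk h.prime
  by_contra hc
  push Not at hc
  obtain ⟨b, hb⟩ := IsPGroup.iff_card.1 ((isPGroup h).to_le hW)
  have hb0 : 0 < b := by
    rcases Nat.eq_zero_or_pos b with rfl | h0
    · exact absurd (Subgroup.card_eq_one.1 (by rw [hb, pow_zero])) hc.1
    · exact h0
  have hbe : b < e := by
    by_contra hle
    refine hc.2 (Subgroup.eq_of_le_of_card_ge hW ?_)
    rw [hb, h.card_P]
    exact Nat.pow_le_pow_right h.prime.pos (not_lt.1 hle)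
  set S : Set Ω := (fun w : G => w • α) '' (W : Set G)
  have hS : S.ncard = p ^ b := by
    rw [Set.InjOn.ncard_image fun u hu v hv he => eq_of_smul_eq h (hW hu) (hW hv) he,
      ← Nat.card_coe_set_eq, ← hb]
    rfl
  have hdb : D.index ∣ p ^ b - 1 := by
    rw [← hS]
    refine dvd_ncard_sub_one h.data hY (fun y hy => (hYn hy).2) S ?_ ⟨1, W.one_mem, one_smul G α⟩
    rintro y hy _ ⟨w, hw, rfl⟩
    exact ⟨y * w * y⁻¹, hWY y hy w hw, (smul_eq_conj h (hYn hy) w).symm⟩
  refine h.bad ?_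
  rw [h.card_eq]
  refine sq_le_of_pow h.prime hb0 hbe hdb ?_
  rw [← h.card_eq]
  exact index_dvd_card_sub_one h.data α

theorem e_pos : 0 < e := by
  rcases Nat.eq_zero_or_pos e with he | he
  · exfalso
    have hn := h.card_eq
    rw [he, pow_zero, Nat.card_eq_one_iff_unique] at hn
    haveI := hn.1
    refine h.ne_top (eq_top_iff.2 fun g _ => ?_)
    have : g = 1 := eq_of_smul_eq_smul (α := Ω) fun ω => Subsingleton.elim _ _
    exact this ▸ D.one_mem
  · exact he

theorem comm {u v : G} (hu : u ∈ P) (hv : v ∈ P) : u * v = v * u := by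
  haveI := Fact.mk h.prime
  set W : Subgroup G := P ⊓ Subgroup.centralizer (P : Set G) with hW
  rcases inv_eq h h.cov le_rfl (inf_le_left : W ≤ P) (fun y hy w hw => ⟨conj_mem h hy hw.1, by
      refine Subgroup.mem_centralizer_iff.2 fun z hz => ?_
      have h1 : y⁻¹ * z * y ∈ P := by
        have := conj_mem h (inv_mem hy) hz
        rwa [inv_inv] at this
      have h2 := Subgroup.mem_centralizer_iff.1 hw.2 _ h1
      calc z * (y * w * y⁻¹) = y * ((y⁻¹ * z * y) * w) * y⁻¹ := by group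
        _ = y * (w * (y⁻¹ * z * y)) * y⁻¹ := by rw [h2]
        _ = _ := by group⟩) with e1 | e1
  · exfalso
    haveI : Nontrivial P := by
      rw [← Finite.one_lt_card_iff_nontrivial, h.card_P]
      exact Nat.one_lt_pow (e_pos h).ne' h.prime.one_lt
    obtain ⟨⟨⟨x, hx⟩, hcP⟩, hc⟩ :=
      (Subgroup.ne_bot_iff_exists_ne_one).1 (isPGroup h).bot_lt_center.ne'
    have hm : x ∈ W := ⟨hx, Subgroup.mem_centralizer_iff.2 fun z hz =>
      congrArg Subtype.val (Subgroup.mem_center_iff.1 hcP ⟨z, hz⟩)⟩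
    exact hc (Subtype.ext (Subtype.ext (Subgroup.mem_bot.1 ((le_of_eq e1) hm))))
  · exact (Subgroup.mem_centralizer_iff.1 (le_of_eq e1.symm hv).2 u hu)

theorem pow_eq_one {v : G} (hv : v ∈ P) : v ^ p = 1 := by
  haveI := Fact.mk h.prime
  let W : Subgroup G :=
    { carrier := {x | x ∈ P ∧ x ^ p = 1}
      one_mem' := ⟨P.one_mem, one_pow p⟩
      mul_mem' := fun {a b} ha hb => ⟨P.mul_mem ha.1 hb.1, by
        rw [(show Commute a b from comm h ha.1 hb.1).mul_pow, ha.2, hb.2, one_mul]⟩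
      inv_mem' := fun {a} ha => ⟨P.inv_mem ha.1, by rw [inv_pow, ha.2, inv_one]⟩ }
  rcases inv_eq h h.cov le_rfl (fun x hx => hx.1 : W ≤ P) (fun y hy w hw => ⟨conj_mem h hy hw.1, by
      rw [conj_pow, hw.2, mul_one, mul_inv_cancel]⟩) with e1 | e1
  · exfalso
    have hd : p ∣ Nat.card P := h.card_P ▸ dvd_pow_self p (e_pos h).ne'
    obtain ⟨x, hx⟩ := exists_prime_orderOf_dvd_card' (G := P) p hd
    have hm : (x : G) ∈ W := ⟨x.2, by rw [← hx, ← Subgroup.orderOf_coe, pow_orderOf_eq_one]⟩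
    rw [e1, Subgroup.mem_bot] at hm
    rw [← Subgroup.orderOf_coe, hm, orderOf_one] at hx
    exact h.prime.ne_one hx.symm
  · exact (le_of_eq e1.symm hv).2

/-- A subgroup fixing `α` and centralised by `P` is trivial. -/
theorem eq_one_of_commute {x : G} (hx : x • α = α) (hc : ∀ v ∈ P, x * v = v * x) : x = 1 := by
  refine eq_of_smul_eq_smul (α := Ω) fun ω => ?_
  obtain ⟨v, rfl⟩ := h.regular.2 ω
  show x • (v : G) • α = (1 : G) • (v : G) • α
  rw [one_smul, ← mul_smul, hc v v.2, mul_smul, hx]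

/-- `P` normalises no nontrivial subgroup of `D` of order prime to `p`. -/
theorem eq_bot_of_normalized {K : Subgroup G} (hK : K ≤ D) (hp : ¬ p ∣ Nat.card K)
    (hn : P ≤ Subgroup.normalizer (K : Set G)) : K = ⊥ := by
  set M := P ⊔ K with hM
  have hMD : M ≤ D := sup_le h.le hK
  have hKM : M ≤ Subgroup.normalizer (K : Set G) := sup_le hn Subgroup.le_normalizer
  haveI : (K.subgroupOf M).Normal :=
    (Subgroup.normal_subgroupOf_iff_le_normalizer le_sup_right).2 hKM
  let π := QuotientGroup.mk' (K.subgroupOf M)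
  have hle : M ⊓ stabilizer G α ≤ K := by
    intro x hx
    set A := ((M ⊓ stabilizer G α).subgroupOf M).map π
    have h1 : Nat.card A ∣ Nat.card (D ⊓ stabilizer G α : Subgroup G) := by
      refine (Subgroup.card_map_dvd _ π).trans ?_
      rw [Nat.card_congr (Subgroup.subgroupOfEquivOfLe inf_le_left).toEquiv]
      exact Subgroup.card_dvd_of_le (inf_le_inf_right _ hMD)
    have h2 : Nat.card A ∣ p ^ e := by
      have hsur : Function.Surjective (π.comp (Subgroup.inclusion (le_sup_left : P ≤ M))) := by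
        intro q
        obtain ⟨⟨m, hm⟩, rfl⟩ := QuotientGroup.mk'_surjective (K.subgroupOf M) q
        obtain ⟨v, hv, k, hk, rfl⟩ : ∃ v ∈ P, ∃ k ∈ K, v * k = m := by
          have : (m : G) ∈ (↑(P ⊔ K) : Set G) := hm
          rw [Subgroup.coe_mul_of_left_le_normalizer_right P K hn] at this
          exact Set.mem_mul.1 this
        refine ⟨⟨v, hv⟩, ?_⟩
        show QuotientGroup.mk' (K.subgroupOf M) _ = QuotientGroup.mk' (K.subgroupOf M) _
        rw [QuotientGroup.mk'_eq_mk']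
        exact ⟨⟨k, le_sup_right (a := P) hk⟩, hk, rfl⟩
      rw [← h.card_P]
      exact (Subgroup.card_subgroup_dvd_card A).trans (Subgroup.card_dvd_of_surjective _ hsur)
    have h3 : Nat.card A = 1 := by
      refine Nat.eq_one_of_dvd_coprimes ?_ h1 h2
      exact (Nat.Coprime.pow_right e ((h.prime.coprime_iff_not_dvd.2 h.cop).symm))
    have h4 : π ⟨x, hx.1⟩ ∈ A := Subgroup.mem_map_of_mem π hx
    rw [Subgroup.card_eq_one.1 h3, Subgroup.mem_bot, QuotientGroup.mk'_apply,
      QuotientGroup.eq_one_iff] at h4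
    exact h4
  -- orders force `K ≤ G_α`
  have hcM : Nat.card (orbit M α) = p ^ e := by
    rw [← h.card_eq]
    have : orbit M α = Set.univ := Set.eq_univ_of_forall fun ω => by
      obtain ⟨v, rfl⟩ := h.regular.2 ω
      exact ⟨⟨v, le_sup_left (b := K) v.2⟩, rfl⟩
    rw [this, Nat.card_coe_set_eq, Set.ncard_univ]
  have hcard := card_orbit_mul M α
  rw [hcM] at hcard
  have hKfix : K ≤ stabilizer G α := by
    have hdvd : Nat.card K ∣ p ^ e * Nat.card (M ⊓ stabilizer G α : Subgroup G) :=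
      hcard ▸ Subgroup.card_dvd_of_le le_sup_right
    have hco : Nat.Coprime (Nat.card K) (p ^ e) :=
      Nat.Coprime.pow_right e (h.prime.coprime_iff_not_dvd.2 hp).symm
    have := Subgroup.eq_of_le_of_card_ge hle
      (Nat.le_of_dvd Nat.card_pos (hco.dvd_of_dvd_mul_left hdvd))
    exact this ▸ inf_le_right
  refine (Subgroup.eq_bot_iff_forall _).2 fun k hk => eq_of_smul_eq_smul (α := Ω) fun ω => ?_
  obtain ⟨v, rfl⟩ := h.regular.2 ω
  show k • (v : G) • α = (1 : G) • (v : G) • α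
  have hk' : (v : G)⁻¹ * k * v ∈ K := by
    have := (Subgroup.mem_normalizer_iff.1 (inv_mem (hn v.2)) k).1 hk
    rwa [inv_inv] at this
  rw [one_smul]
  conv_rhs => rw [← mem_stabilizer_iff.1 (hKfix hk')]
  rw [← mul_smul, ← mul_smul]
  congr 1
  group

/-- The counting inequality. -/
theorem count {Y : Subgroup G} (hY : Y ⊔ D = ⊤) (hYn : Y ≤ nStab P α) {v : G} (hv : v ∈ P)
    (hv1 : v ≠ 1) (S : Set G) (hSP : S ⊆ P) (hS : ∀ y ∈ Y, ∀ s ∈ S, y * s * y⁻¹ ∈ S) (hvS : v ∈ S)
    {R : Subgroup G} (hR : R ≤ Y ⊓ D) :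
    D.index * Nat.card R ≤ S.ncard * Nat.card (R ⊓ Subgroup.centralizer {v} : Subgroup G) ∧
      D.index * Nat.card R ≤ Nat.card (orbit Y (v • α)) *
        Nat.card (R ⊓ Subgroup.centralizer {v} : Subgroup G) := by
  haveI : Nonempty Ω := ⟨α⟩
  have hstabK : Y ⊓ stabilizer G (v • α) ≤ (Y ⊓ D) ⊓ stabilizer G (v • α) := by
    intro y hy
    refine ⟨⟨hy.1, ?_⟩, hy.2⟩
    by_contra hyD
    obtain ⟨ω, -, hu⟩ := fix_unique h.data hyD
    have := (hu α (hYn hy.1).2).trans (hu (v • α) hy.2).symm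
    exact hv1 (eq_of_smul_eq h hv P.one_mem (by rw [one_smul, ← this]))
  have e1 : Y ⊓ stabilizer G (v • α) = (Y ⊓ D) ⊓ stabilizer G (v • α) :=
    le_antisymm hstabK (inf_le_inf_right _ inf_le_left)
  have h1 := card_orbit_mul Y (v • α)
  have h2 := card_orbit_mul (Y ⊓ D) (v • α)
  rw [card_supplement h.data hY, ← h2, e1, ← mul_assoc] at h1
  have h3 : Nat.card (orbit Y (v • α)) = D.index * Nat.card (orbit (Y ⊓ D : Subgroup G) (v • α)) :=
    Nat.eq_of_mul_eq_mul_right Nat.card_pos h1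
  have h4 : Nat.card (orbit R (v • α)) ≤ Nat.card (orbit (Y ⊓ D : Subgroup G) (v • α)) := by
    rw [Nat.card_coe_set_eq, Nat.card_coe_set_eq]
    refine Set.ncard_le_ncard ?_ (Set.toFinite _)
    rintro _ ⟨r, rfl⟩
    exact ⟨⟨r, hR r.2⟩, rfl⟩
  have h5 := card_orbit_mul R (v • α)
  have e2 : R ⊓ stabilizer G (v • α) = R ⊓ Subgroup.centralizer {v} := by
    ext r
    simp only [Subgroup.mem_inf, mem_stabilizer_iff, Subgroup.mem_centralizer_singleton_iff,
      and_congr_right_iff]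
    intro hr
    have hrn := hYn (hR hr).1
    rw [smul_eq_conj h hrn v]
    refine ⟨fun e3 => ?_, fun e3 => ?_⟩
    · exact mul_inv_eq_iff_eq_mul.1 (eq_of_smul_eq h (conj_mem h hrn hv) hv e3)
    · rw [mul_inv_eq_iff_eq_mul.2 e3]
  rw [e2] at h5
  have hO : D.index * Nat.card R ≤
      Nat.card (orbit Y (v • α)) * Nat.card (R ⊓ Subgroup.centralizer {v} : Subgroup G) := by
    rw [← h5, h3, mul_assoc]
    exact Nat.mul_le_mul_left _ (Nat.mul_le_mul_right _ h4)
  refine ⟨hO.trans (Nat.mul_le_mul_right _ ?_), hO⟩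
  rw [Nat.card_coe_set_eq]
  refine (Set.ncard_le_ncard (t := (fun u : G => u • α) '' S) ?_ (Set.toFinite _)).trans
    (Set.ncard_image_le (Set.toFinite _))
  rintro _ ⟨y, rfl⟩
  exact ⟨(y : G) * v * (y : G)⁻¹, hS y y.2 v hvS, (smul_eq_conj h (hYn y.2) v).symm⟩

end

end CfsgLib.Perm.DerangeIndex
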