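import Cfsg.Agent.Lib.Perm.DerangeIndex.Basic

/-!
# Supplements of the derangement subgroup: the Frattini argument and the degree

* `frattini`: a supplement has a Sylow normaliser (of its intersection with `D`) supplementing `D`.
* `exists_pow_dvd`: every prime divisor `p` of the degree has a power `p ^ b ≡ 1 (mod d)` dividing
  the degree, properly if `p` divides the order of a stabiliser in `D`.
* `sq_le_of_mul`: hence the bound unless the degree is a prime power prime to `|D_α|`.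
-/

set_option autoImplicit false
set_option linter.all false

namespace CfsgLib.Perm.DerangeIndex

open MulAction

variable {G Ω : Type*} [Group G] [MulAction G Ω] [Finite G] {D : Subgroup G}

theorem frattini [hDn : D.Normal] {Y : Subgroup G} (hY : Y ⊔ D = ⊤) (p : ℕ) [Fact p.Prime] :
    ∃ X : Subgroup G, X ≤ Y ⊓ D ∧ IsPGroup p X ∧
      (∀ Q : Subgroup G, Q ≤ Y ⊓ D → IsPGroup p Q → X ≤ Q → Q = X) ∧
      (∀ Q : Subgroup G, Q ≤ Y ⊓ D → IsPGroup p Q → Nat.card Q ≤ Nat.card X) ∧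
      (Y ⊓ Subgroup.normalizer (X : Set G)) ⊔ D = ⊤ := by
  set N := D.subgroupOf Y with hN
  obtain ⟨P⟩ : Nonempty (Sylow p N) := inferInstance
  set X := ((P : Subgroup N).map N.subtype).map Y.subtype with hX
  have hXle : X ≤ Y ⊓ D := by
    rintro _ ⟨_, ⟨x, -, rfl⟩, rfl⟩
    exact ⟨(x : Y).2, x.2⟩
  have hmax : ∀ Q : Subgroup G, Q ≤ Y ⊓ D → IsPGroup p Q → Nat.card Q ≤ Nat.card X := by
    intro Q hQ hQp
    have hQp' : IsPGroup p ((Q.subgroupOf Y).subgroupOf N) :=
      (hQp.comap_of_injective Y.subtype Y.subtype_injective).comap_of_injective N.subtype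
        N.subtype_injective
    have hc : Nat.card Q = Nat.card ((Q.subgroupOf Y).subgroupOf N) := by
      rw [Nat.card_congr (Subgroup.subgroupOfEquivOfLe
        (show Q.subgroupOf Y ≤ N from fun x hx => (hQ hx).2)).toEquiv,
        Nat.card_congr (Subgroup.subgroupOfEquivOfLe (hQ.trans inf_le_left)).toEquiv]
    obtain ⟨P', hP'⟩ := hQp'.exists_le_sylow
    have hPX : Nat.card (P : Subgroup N) = Nat.card X := by
      rw [hX, Subgroup.card_map_of_injective Y.subtype_injective,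
        Subgroup.card_map_of_injective N.subtype_injective]
    have hPP : Nat.card (P' : Subgroup N) = Nat.card (P : Subgroup N) := by
      rw [Sylow.card_eq_multiplicity, Sylow.card_eq_multiplicity]
    rw [hc]
    exact (Nat.le_of_dvd Nat.card_pos (Subgroup.card_dvd_of_le hP')).trans (hPP.trans hPX).le
  refine ⟨X, hXle, (P.isPGroup'.map _).map _, fun Q hQ hQp hXQ =>
    (Subgroup.eq_of_le_of_card_ge hXQ (hmax Q hQ hQp)).symm, hmax, eq_top_iff.2 fun g _ => ?_⟩
  have hg : g ∈ Y ⊔ D := hY ▸ Subgroup.mem_top g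
  obtain ⟨y, hy, x, hx, rfl⟩ := Subgroup.mem_sup_of_normal_right.1 hg
  have htop := Sylow.normalizer_sup_eq_top P
  have hyN : (⟨y, hy⟩ : Y) ∈ Subgroup.normalizer (((P : Subgroup N).map N.subtype : Subgroup Y) : Set Y) ⊔ N :=
    htop ▸ Subgroup.mem_top _
  obtain ⟨w, hw, k, hk, hwk⟩ := Subgroup.mem_sup_of_normal_right.1 hyN
  have e : y = (w : G) * (k : G) := (congrArg Subtype.val hwk).symm
  refine Subgroup.mem_sup_of_normal_right.2 ⟨w, ⟨w.2, ?_⟩, (k : G) * x, mul_mem hk hx, ?_⟩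
  · exact Subgroup.le_normalizer_map (f := Y.subtype) (Subgroup.mem_map_of_mem _ hw)
  · rw [e, mul_assoc]

theorem stabilizer_sup {Ω : Type*} [MulAction G Ω] (h : DData D Ω) (α : Ω) :
    stabilizer G α ⊔ D = ⊤ := by
  haveI := h.normal
  refine eq_top_iff.2 fun g _ => ?_
  obtain ⟨x, hx, hxe⟩ := h.transitive (g • α) α
  refine Subgroup.mem_sup_of_normal_right.2 ⟨x * g, ?_, g⁻¹ * x⁻¹ * g, ?_, by group⟩
  · rw [mem_stabilizer_iff, mul_smul, hxe]
  · simpa using h.normal.conj_mem _ (inv_mem hx) g⁻¹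

theorem card_eq_mul_stab (h : DData D Ω) (α : Ω) :
    Nat.card D = Nat.card Ω * Nat.card (D ⊓ stabilizer G α : Subgroup G) := by
  haveI : IsPretransitive D Ω := ⟨fun a b => by
    obtain ⟨x, hx, e⟩ := h.transitive a b
    exact ⟨⟨x, hx⟩, e⟩⟩
  rw [← card_orbit_mul D α, orbit_eq_univ, Nat.card_coe_set_eq, Set.ncard_univ]

/-- Every prime divisor of the degree has a power `≡ 1 (mod d)` dividing the degree. -/
theorem exists_pow_dvd [Finite Ω] [FaithfulSMul G Ω] (h : DData D Ω) (hd : D ≠ ⊤) (α : Ω)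
    {p : ℕ} (hp : p.Prime) (hpn : p ∣ Nat.card Ω) :
    ∃ b : ℕ, 0 < b ∧ p ^ b ∣ Nat.card Ω ∧ D.index ∣ p ^ b - 1 ∧
      (p ∣ Nat.card (D ⊓ stabilizer G α : Subgroup G) → p ^ b ≠ Nat.card Ω) := by
  haveI := Fact.mk hp
  haveI := h.normal
  haveI : Nonempty Ω := ⟨α⟩
  obtain ⟨X, hXle, hXp, -, hXmax, hY1⟩ := frattini (stabilizer_sup h α) p
  set Y := Subgroup.normalizer (X : Set G) with hYdef
  have hY : Y ⊔ D = ⊤ := eq_top_iff.2 (hY1.symm.le.trans (sup_le_sup_right inf_le_right _))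
  have hXD : X ≤ D := hXle.trans inf_le_right
  have hXY : X ≤ Y ⊓ D := le_inf Subgroup.le_normalizer hXD
  obtain ⟨X', hX'le, hX'p, hX'u, hX'max, hY'⟩ := frattini hY p
  -- `X` lies in `X'`
  have hXX' : X ≤ X' := by
    have hsup : IsPGroup p (X' ⊔ X : Subgroup G) :=
      hX'p.to_sup_of_normal_right' hXp (hX'le.trans inf_le_left)
    have := hX'u (X' ⊔ X) (sup_le hX'le hXY) hsup le_sup_left
    exact this ▸ le_sup_right
  -- `X` is not a Sylow subgroup of `D`
  have hlt : X ≠ X' := by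
    intro e
    obtain ⟨P, hP⟩ := (hXp.comap_of_injective D.subtype D.subtype_injective).exists_le_sylow
    set P0 := (P : Subgroup D).map D.subtype
    have hXP : X ≤ P0 := fun x hx => ⟨⟨x, hXD hx⟩, hP hx, rfl⟩
    have hP0p : IsPGroup p P0 := P.isPGroup'.map _
    by_cases hPX : P0 ≤ X
    · -- then `|D|` and `|D_α|` have the same `p`-part
      have hc : Nat.card X = p ^ (Nat.card D).factorization p := by
        rw [← le_antisymm hPX hXP, Subgroup.card_map_of_injective D.subtype_injective,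
          Sylow.card_eq_multiplicity]
      have hdvd : Nat.card X ∣ Nat.card (D ⊓ stabilizer G α : Subgroup G) :=
        Subgroup.card_dvd_of_le (hXle.trans (by rw [inf_comm]))
      rw [hc] at hdvd
      obtain ⟨c, hc'⟩ := hdvd
      obtain ⟨n', hn'⟩ := hpn
      have hD := card_eq_mul_stab h α
      rw [hc', hn'] at hD
      have hbig : p ^ ((Nat.card D).factorization p + 1) ∣ Nat.card D :=
        ⟨n' * c, by rw [pow_succ]; nth_rewrite 1 [hD]; ring⟩
      exact Nat.pow_succ_factorization_not_dvd Nat.card_pos.ne' hp hbig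
    · haveI : Group.IsNilpotent P0 := hP0p.isNilpotent
      have hlt : X.subgroupOf P0 < ⊤ :=
        lt_top_iff_ne_top.2 fun e => hPX (Subgroup.subgroupOf_eq_top.1 e)
      obtain ⟨⟨x, hxP⟩, hx, hxX⟩ :=
        SetLike.exists_of_lt (Group.normalizerCondition_of_isNilpotent _ hlt)
      have hxn : x ∈ Y := by
        refine Subgroup.mem_normalizer_iff.2 fun z => ⟨fun hz => ?_, fun hz => ?_⟩
        · exact (Subgroup.mem_normalizer_iff.1 hx ⟨z, hXP hz⟩).1 hz
        · have hzP : z ∈ P0 := by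
            have := mul_mem (mul_mem (inv_mem hxP) (hXP hz)) hxP
            simpa [mul_assoc] using this
          exact (Subgroup.mem_normalizer_iff.1 hx ⟨z, hzP⟩).2 hz
      have hxD : x ∈ D := Subgroup.map_subtype_le _ hxP
      have hsup : IsPGroup p (Subgroup.zpowers x ⊔ X : Subgroup G) :=
        (hP0p.to_le (Subgroup.zpowers_le.2 hxP)).to_sup_of_normal_right' hXp
          (Subgroup.zpowers_le.2 hxn)
      have := hX'u _ (sup_le (Subgroup.zpowers_le.2 ⟨hxn, hxD⟩) hXY) hsup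
        (e ▸ le_sup_right)
      exact hxX (show x ∈ X from e.symm ▸ this ▸
        Subgroup.mem_sup_left (Subgroup.mem_zpowers x))
  -- the centre of the orbit of `N(X)` is the orbit of `α`
  obtain ⟨β0, -, hβ0⟩ := exists_center_orbit h hd hY
  obtain ⟨y1, hy1, hy1D⟩ := exists_mem_not_mem hY1 hd
  obtain ⟨k0, hk0, hk0e⟩ := hβ0 y1 hy1.2 hy1D α hy1.1
  -- the centre of the orbit of `N(X) ∩ N(X')`
  set Y' := Y ⊓ Subgroup.normalizer (X' : Set G) with hY'def
  obtain ⟨β', hβ'1, -⟩ := exists_center_orbit h hd hY'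
  have hY'' : (Y' ⊓ stabilizer G β') ⊔ D = ⊤ := by
    refine eq_top_iff.2 fun g _ => ?_
    obtain ⟨y, hy, x, hx, rfl⟩ :=
      Subgroup.mem_sup_of_normal_right.1 (hY'.symm ▸ Subgroup.mem_top g : g ∈ Y' ⊔ D)
    obtain ⟨k, hk, hke⟩ := hβ'1 y hy
    refine Subgroup.mem_sup_of_normal_right.2 ⟨k * y, ⟨mul_mem hk.1 hy, hke⟩,
      y⁻¹ * k⁻¹ * y * x, mul_mem ?_ hx, by group⟩
    simpa using h.normal.conj_mem _ (inv_mem hk.2) y⁻¹
  obtain ⟨y', hy', hy'D⟩ := exists_mem_not_mem hY'' hd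
  obtain ⟨k1, hk1, hk1e⟩ := hβ0 y' hy'.1.1 hy'D β' hy'.2
  have hk : k1 * k0⁻¹ ∈ Y ⊓ D := mul_mem hk1 (inv_mem hk0)
  have hkα : (k1 * k0⁻¹) • α = β' := by rw [mul_smul, ← hk0e, inv_smul_smul, hk1e]
  set k := k1 * k0⁻¹
  have hXfix : X ≤ stabilizer G β' := by
    intro x hx
    have h1 : k⁻¹ * x * k ∈ X := by
      have := (Subgroup.mem_normalizer_iff.1 (inv_mem hk.1) x).1 hx
      rwa [inv_inv] at this
    have h2 : (k⁻¹ * x * k) • α = α := (hXle h1).1
    rw [mem_stabilizer_iff, ← hkα]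
    calc x • k • α = k • (k⁻¹ * x * k) • α := by simp [← mul_smul, mul_assoc]
      _ = k • α := by rw [h2]
  have hint : X' ⊓ stabilizer G β' = X := by
    refine (Subgroup.eq_of_le_of_card_ge (le_inf hXX' hXfix) ?_).symm
    set Q := (X' ⊓ stabilizer G β').map (MulAut.conj k⁻¹).toMonoidHom with hQ
    have hQc : Nat.card Q = Nat.card (X' ⊓ stabilizer G β' : Subgroup G) :=
      Subgroup.card_map_of_injective (MulAut.conj k⁻¹).injective
    rw [← hQc]
    refine hXmax Q ?_ ((hX'p.to_le inf_le_left).map _)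
    rintro _ ⟨x, hx, rfl⟩
    refine ⟨?_, h.normal.conj_mem x (hX'le hx.1).2 k⁻¹⟩
    show k⁻¹ * x * k⁻¹⁻¹ ∈ stabilizer G α
    rw [inv_inv, mem_stabilizer_iff, mul_smul, mul_smul, hkα, mem_stabilizer_iff.1 hx.2,
      inv_smul_eq_iff, hkα]
  -- the orbit
  set S : Set Ω := orbit X' β' with hS
  have hcard : S.ncard * Nat.card X = Nat.card X' := by
    have := card_orbit_mul X' β'
    rwa [hint, Nat.card_coe_set_eq] at this
  obtain ⟨a, ha⟩ := IsPGroup.iff_card.1 hXp
  obtain ⟨c, hc⟩ := IsPGroup.iff_card.1 hX'p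
  have hac : a < c := by
    by_contra hle
    refine hlt (Subgroup.eq_of_le_of_card_ge hXX' ?_)
    rw [ha, hc]
    exact Nat.pow_le_pow_right hp.pos (not_lt.1 hle)
  have hS' : S.ncard = p ^ (c - a) := by
    refine Nat.eq_of_mul_eq_mul_right (Nat.card_pos (α := X)) ?_
    rw [hcard, ha, hc, ← pow_add, Nat.sub_add_cancel hac.le]
  refine ⟨c - a, Nat.sub_pos_of_lt hac, ?_, ?_, ?_⟩
  · -- divides the degree
    have h1 : Nat.card X' ∣ Nat.card D := Subgroup.card_dvd_of_le (hX'le.trans inf_le_right)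
    rw [card_eq_mul_stab h α, hc] at h1
    have hvp : (Nat.card (D ⊓ stabilizer G α : Subgroup G)).factorization p ≤ a := by
      obtain ⟨P⟩ : Nonempty (Sylow p (D ⊓ stabilizer G α : Subgroup G)) := inferInstance
      have h2 := hXmax ((P : Subgroup (D ⊓ stabilizer G α : Subgroup G)).map
        (D ⊓ stabilizer G α : Subgroup G).subtype)
        (fun x hx => ⟨(Subgroup.map_subtype_le _ hx).2, (Subgroup.map_subtype_le _ hx).1⟩)
        (P.isPGroup'.map _)
      rw [Subgroup.card_map_of_injective (Subgroup.subtype_injective _), Sylow.card_eq_multiplicity,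
        ha] at h2
      exact (Nat.pow_le_pow_iff_right hp.one_lt).1 h2
    rw [hp.pow_dvd_iff_le_factorization (Nat.mul_ne_zero Nat.card_pos.ne' Nat.card_pos.ne'),
      Nat.factorization_mul Nat.card_pos.ne' Nat.card_pos.ne', Finsupp.add_apply] at h1
    rw [hp.pow_dvd_iff_le_factorization Nat.card_pos.ne']
    omega
  · rw [← hS']
    refine dvd_ncard_sub_one h hY'' (fun y hy => hy.2) S (fun y hy s hs => ?_) (mem_orbit_self β')
    obtain ⟨x, rfl⟩ := hs
    refine ⟨⟨y * x * y⁻¹, (Subgroup.mem_normalizer_iff.1 hy.1.2 x).1 x.2⟩, ?_⟩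
    show (y * (x : G) * y⁻¹) • β' = y • (x : G) • β'
    rw [mul_smul, mul_smul, show y⁻¹ • β' = β' from inv_smul_eq_iff.2 hy.2.symm]
  · intro hpD hn
    have huniv : S = Set.univ :=
      Set.eq_of_subset_of_ncard_le (Set.subset_univ _) (by rw [Set.ncard_univ, hS', hn])
        (Set.toFinite _)
    have hXb : X = ⊥ := by
      refine (Subgroup.eq_bot_iff_forall _).2 fun x hx => eq_of_smul_eq_smul (α := Ω) fun γ => ?_
      obtain ⟨z, rfl⟩ : γ ∈ S := huniv ▸ Set.mem_univ γ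
      have hz : ((z : G)⁻¹ * x * z) ∈ X := by
        have := (Subgroup.mem_normalizer_iff.1 (inv_mem (hX'le z.2).1) x).1 hx
        rwa [inv_inv] at this
      rw [one_smul]
      show x • (z : G) • β' = (z : G) • β'
      calc x • (z : G) • β' = (z : G) • ((z : G)⁻¹ * x * z) • β' := by simp [← mul_smul, mul_assoc]
        _ = _ := by rw [hXfix hz]
    obtain ⟨y, hy⟩ := exists_prime_orderOf_dvd_card' (G := (D ⊓ stabilizer G α : Subgroup G)) p hpD
    have h3 := hXmax (Subgroup.zpowers (y : G))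
      (Subgroup.zpowers_le.2 ⟨y.2.2, y.2.1⟩)
      (IsPGroup.iff_card.2 ⟨1, by rw [Nat.card_zpowers, Subgroup.orderOf_coe, hy, pow_one]⟩)
    rw [hXb, Subgroup.card_bot, Nat.card_zpowers, Subgroup.orderOf_coe, hy] at h3
    exact absurd hp.one_lt (not_lt.2 h3)

theorem sq_le_of_dvd {n p q d a b : ℕ} (hn : 0 < n) (hp : p.Prime) (hq : q.Prime) (hpq : p ≠ q)
    (ha : 0 < a) (hb : 0 < b) (hpa : p ^ a ∣ n) (hqb : q ^ b ∣ n)
    (hda : d ∣ p ^ a - 1) (hdb : d ∣ q ^ b - 1) : (d + 1) ^ 2 ≤ n := by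
  have h1 : ∀ {r c : ℕ}, r.Prime → 0 < c → d ∣ r ^ c - 1 → d + 1 ≤ r ^ c := by
    intro r c hr hc hd
    have h2 : 2 ≤ r ^ c := le_trans hr.two_le (Nat.le_self_pow hc.ne' r)
    have := Nat.le_of_dvd (by omega) hd
    omega
  have hco : Nat.Coprime (p ^ a) (q ^ b) :=
    Nat.Coprime.pow a b ((Nat.coprime_primes hp hq).2 hpq)
  calc (d + 1) ^ 2 = (d + 1) * (d + 1) := sq _
    _ ≤ p ^ a * q ^ b := Nat.mul_le_mul (h1 hp ha hda) (h1 hq hb hdb)
    _ ≤ n := Nat.le_of_dvd hn (hco.mul_dvd_of_dvd_of_dvd hpa hqb)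

/-- A proper power congruent to one gives the bound. -/
theorem sq_le_of_pow {p d b e : ℕ} (hp : p.Prime) (hb : 0 < b) (hbe : b < e)
    (hdb : d ∣ p ^ b - 1) (hde : d ∣ p ^ e - 1) : (d + 1) ^ 2 ≤ p ^ e := by
  have hg := Nat.dvd_gcd hdb hde
  rw [Nat.pow_sub_one_gcd_pow_sub_one] at hg
  set g := Nat.gcd b e with hgdef
  have hg0 : 0 < g := Nat.gcd_pos_of_pos_left _ hb
  have hgb : g ≤ b := Nat.le_of_dvd hb (Nat.gcd_dvd_left b e)
  obtain ⟨c, hc⟩ := Nat.gcd_dvd_right b e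
  rw [← hgdef] at hc
  have h2g : 2 * g ≤ e := by
    rcases c with _ | _ | c
    · omega
    · omega
    · rw [hc]; nlinarith
  have hpg : 2 ≤ p ^ g := le_trans hp.two_le (Nat.le_self_pow hg0.ne' p)
  have := Nat.le_of_dvd (by omega) hg
  calc (d + 1) ^ 2 ≤ (p ^ g) ^ 2 := Nat.pow_le_pow_left (by omega) 2
    _ = p ^ (2 * g) := by rw [← pow_mul, mul_comm]
    _ ≤ p ^ e := Nat.pow_le_pow_right hp.pos h2g

theorem index_dvd_card_sub_one [Finite Ω] (h : DData D Ω) (α : Ω) :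
    D.index ∣ Nat.card Ω - 1 := by
  rw [← Set.ncard_univ]
  exact dvd_ncard_sub_one h (stabilizer_sup h α) le_rfl _ (fun _ _ _ _ => Set.mem_univ _)
    (Set.mem_univ α)

/-- The bound, unless the degree is a prime power prime to `|D_α|`. -/
theorem reduce [Finite Ω] [FaithfulSMul G Ω] (h : DData D Ω) (hd : D ≠ ⊤) (α : Ω)
    (hn : 2 ≤ Nat.card Ω) :
    (D.index + 1) ^ 2 ≤ Nat.card Ω ∨ ∃ p e : ℕ, p.Prime ∧ Nat.card Ω = p ^ e ∧
      ¬ p ∣ Nat.card (D ⊓ stabilizer G α : Subgroup G) := by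
  obtain ⟨p, hp, hpn⟩ := Nat.exists_prime_and_dvd (n := Nat.card Ω) (by omega)
  obtain ⟨b, hb, hbn, hbd, hbne⟩ := exists_pow_dvd h hd α hp hpn
  by_cases hall : ∀ {q : ℕ}, q.Prime → q ∣ Nat.card Ω → q = p
  · have he := Nat.eq_prime_pow_of_unique_prime_dvd (by omega) hall
    set e := (Nat.card Ω).primeFactorsList.length
    by_cases hpD : p ∣ Nat.card (D ⊓ stabilizer G α : Subgroup G)
    · left
      have h1 := hbne hpD
      rw [he] at hbn h1 ⊢
      refine sq_le_of_pow hp hb (lt_of_le_of_ne ((Nat.pow_dvd_pow_iff_le_right hp.one_lt).1 hbn)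
        fun e' => h1 (by rw [e'])) hbd ?_
      rw [← he]
      exact index_dvd_card_sub_one h α
    · exact Or.inr ⟨p, e, hp, he, hpD⟩
  · push Not at hall
    obtain ⟨q, hq, hqn, hqp⟩ := hall
    obtain ⟨c, hc, hcn, hcd, -⟩ := exists_pow_dvd h hd α hq hqn
    exact Or.inl (sq_le_of_dvd (by omega) hp hq (Ne.symm hqp) hb hc hbn hcn hbd hcd)

end CfsgLib.Perm.DerangeIndex
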